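import Cfsg.Agent.H32.P3Fam
import Cfsg.Agent.H81.Frob
import Cfsg.Agent.S0054

/-! Arithmetic, orbit counting and Frobenius kernels. -/

set_option autoImplicit false

namespace Cfsg.Agent.H32.P3

open Subgroup MulAction Cfsg.Agent.H12

theorem arith {n m : ℕ} (h2 : 2 ≤ m) (h1 : m ∣ (2 ^ n + 1) * (m - 1) + 1)
    (h3 : (2 ^ n + 1) * (m - 1) + 1 ∣
      ((2 ^ n * 2 ^ n + 2 ^ n + 1) * (m - 1) + 1) * (2 ^ n * 2 ^ n + 2 ^ n + 1)) :
    m = 2 ^ n ∨ 2 ^ n = m * m := by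
  obtain ⟨k, rfl⟩ : ∃ k, m = k + 1 := ⟨m - 1, by omega⟩
  rw [Nat.add_sub_cancel] at h1 h3
  have c1 : Nat.Coprime (k + 1) k := by simp
  obtain ⟨r, hr⟩ : k + 1 ∣ 2 ^ n := c1.dvd_of_dvd_mul_right
    ((Nat.dvd_add_left (dvd_refl _)).1 (by convert h1 using 1; ring))
  by_cases r1 : r = 1
  · left; rw [hr, r1, mul_one]
  obtain ⟨j, -, hj⟩ := (Nat.dvd_prime_pow Nat.prime_two).1 (Dvd.intro_left _ hr.symm)
  have he : Even r := hj ▸ Nat.even_pow.2 ⟨even_two, by rintro rfl; exact r1 hj⟩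
  have c2 : Nat.Coprime (r * k + 1) (k * (2 ^ n * 2 ^ n)) := by
    refine Nat.Coprime.mul_right (by simp) ?_
    rw [← pow_add]
    exact Nat.Coprime.pow_right _ (Nat.coprime_two_right.2 (he.mul_right k).add_one)
  have h4 : r * k + 1 ∣ 2 ^ n * 2 ^ n + 2 ^ n + 1 := by
    refine c2.dvd_of_dvd_mul_left ((Nat.dvd_add_right (Dvd.intro
      ((k + 1) * (2 ^ n * 2 ^ n + 2 ^ n + 1)) rfl)).1 ?_)
    refine Dvd.dvd.trans (Dvd.intro (k + 1) (by rw [hr]; ring)) (h3.trans (dvd_of_eq ?_))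
    rw [hr]; ring
  obtain ⟨s, rfl⟩ : ∃ s, r = s + 1 := ⟨r - 1, by have := Nat.two_pow_pos j; omega⟩
  right
  rw [hr] at h4 ⊢
  have h5 : (s + 1) * k + 1 ∣ s * s + s + 1 := (Nat.dvd_add_right (Dvd.intro
    ((s + 1) * k + 1 + 2 * s + 1) rfl)).1 (by convert h4 using 1; ring)
  have h6 : (s + 1) * k + 1 ∣ k * k + k + 1 := (Nat.dvd_add_right (Dvd.intro
    ((s + 1) * k + 1) rfl)).1 (by
      convert Nat.dvd_add (h5.mul_left (k * k)) (Dvd.intro (k + 2) rfl) using 1; ring)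
  have h7 := Nat.le_of_dvd (by positivity) h5
  have h8 := Nat.le_of_dvd (by positivity) h6
  have h9 : k ≤ s := by nlinarith
  have h10 : s ≤ k := by nlinarith
  rw [le_antisymm h9 h10]

variable {G Ω : Type*} [Group G] [MulAction G Ω]

theorem orb_le [Finite Ω] {A : Subgroup G} {T : Set Ω} {x : Ω} (h : ∀ a ∈ A, a • x ∈ T) :
    (stabilizer G x).relIndex A ≤ T.ncard := by
  rw [← orb_card]
  exact Set.ncard_le_ncard (by rintro _ ⟨a, ha, rfl⟩; exact h a ha)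

theorem orb_dvd [Finite Ω] {A : Subgroup G} {T : Set Ω} (h : ∀ a ∈ A, ∀ x ∈ T, a • x ∈ T) {k : ℕ}
    (hk : ∀ x ∈ T, k ∣ (stabilizer G x).relIndex A) : k ∣ T.ncard := by
  refine H81.dvd_card_of_fibers (· ∈ T) (fun x => orbit A x) k fun x hx => ?_
  convert hk x hx
  rw [← orb_card]
  change Set.ncard {y | y ∈ T ∧ orbit A y = orbit A x} = _
  congr 1; ext y
  refine ⟨fun hy => ?_, ?_⟩
  · obtain ⟨a, e⟩ := orbit_eq_iff.1 hy.2
    exact ⟨a, a.2, e⟩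
  · rintro ⟨a, ha, rfl⟩
    exact ⟨h a ha x hx, orbit_eq_iff.2 ⟨⟨a, ha⟩, rfl⟩⟩

variable [Finite G]

theorem fr (h : T2 G Ω) {E : Subgroup G} (hE : E.Normal) (hne : E ≠ ⊥)
    (hf : ∀ g ∈ E, ∀ x y : Ω, x ≠ y → g • x = x → g • y = y → g = 1) (a : Ω) : RegN G Ω := by
  obtain ⟨K, hK1, hK2⟩ := exists_frobenius_kernel E (Set.univ : Set Ω) (b := a) trivial
    (fun _ _ => trivial) (fun y _ => h.normal_trans hE hne a y)
    fun m hm m1 x _ y _ hx hy => by_contra fun e => m1 (hf m hm x y e hx hy)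
  refine ⟨K, ⟨fun n hn g => ?_⟩, fun x y => ?_, fun x r hr e => ?_⟩
  · rw [hK1] at hn ⊢
    refine ⟨hE.conj_mem n hn.1 g, hn.2.imp (by rintro rfl; simp) fun h1 x _ e => ?_⟩
    rw [mul_smul, mul_smul] at e
    exact h1 (g⁻¹ • x) trivial (eq_inv_smul_iff.2 e)
  · obtain ⟨k, hk, rfl⟩ := hK2 x trivial
    obtain ⟨l, hl, rfl⟩ := hK2 y trivial
    exact ⟨l * k⁻¹, mul_mem hl (inv_mem hk), by rw [mul_smul, inv_smul_smul]⟩
  · exact ((hK1 r).1 hr).2.resolve_right fun h1 => h1 x trivial e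

omit [Finite G] in
theorem card_reg {R : Subgroup G} (h1 : ∀ x y : Ω, ∃ r ∈ R, r • x = y)
    (h2 : ∀ x : Ω, ∀ r ∈ R, r • x = x → r = 1) (a : Ω) : Nat.card R = Nat.card Ω :=
  Nat.card_eq_of_bijective (fun r => (r : G) • a) ⟨fun r s e => Subtype.ext (inv_mul_eq_one.1
    (h2 a _ (mul_mem (inv_mem r.2) s.2) (by rw [mul_smul, inv_smul_eq_iff]; exact e.symm))),
    fun y => by obtain ⟨r, hr, e⟩ := h1 a y; exact ⟨⟨r, hr⟩, e⟩⟩

omit [Finite G] in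
theorem pp [Finite Ω] (two : ∀ {a b c d : Ω}, a ≠ b → c ≠ d → ∃ g : G, g • a = c ∧ g • b = d)
    {C : Subgroup G} (hC : C.Normal) {g : G} (hg : g ∈ C) {a : Ω} (ha : g • a ≠ a)
    (hf : ∀ g ∈ C, ∀ x y : Ω, x ≠ y → g • x = x → g • y = y → ∀ z : Ω, g • z = z) :
    ∃ p k, p.Prime ∧ Nat.card Ω = p ^ k := by
  let f := (toPermHom G Ω).rangeRestrict
  have hs : Function.Surjective f := MonoidHom.rangeRestrict_surjective _
  have t : T2 (toPermHom G Ω).range Ω := ⟨fun g hg => Subtype.ext (Equiv.ext hg),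
    fun h1 h2 => by obtain ⟨g, e⟩ := two h1 h2; exact ⟨f g, e⟩⟩
  obtain ⟨R, hR, h1, h2⟩ := fr t (hC.map f hs) (fun e => ha (by
    have : f g = 1 := mem_bot.1 (e ▸ mem_map_of_mem f hg)
    change f g • a = a
    rw [this, one_smul])) (by
      rintro _ ⟨k, hk, rfl⟩ x y ne e1 e2
      exact t.faith _ (hf k hk x y ne e1 e2)) a
  have : Nonempty Ω := ⟨a⟩
  obtain ⟨-, p, hp, h3⟩ := S0054.result t.mathlib R
    ⟨fun x y => by obtain ⟨r, hr, e⟩ := h1 x y; exact ⟨⟨r, hr⟩, e⟩⟩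
    fun x => eq_bot_iff.2 fun r hr => Subtype.ext (h2 x r r.2 hr)
  have : Fact p.Prime := ⟨hp⟩
  obtain ⟨k, hk⟩ := IsPGroup.iff_card.1 (fun r => ⟨1, Subtype.ext (by simpa using h3 r r.2)⟩ :
    IsPGroup p R)
  exact ⟨p, k, hp, (card_reg h1 h2 a).symm.trans hk⟩

end Cfsg.Agent.H32.P3
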