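import Cfsg.Agent.H32.P3Geo
import Cfsg.Agent.H32.P3Ar

/-! The affine case `m = q`. -/

set_option autoImplicit false

namespace Cfsg.Agent.H32.P3

open Subgroup MulAction Cfsg.Agent.SR3 Cfsg.Agent.H92 Cfsg.Agent.H12
open scoped commutatorElement

variable {G Ω : Type*} [Group G] [Finite G] [MulAction G Ω] [Finite Ω] {n : ℕ}
  {M V V' V'' V₁ V₂ W : Subgroup G} {g s t x z : G} {N : Ω → Subgroup G}
  {𝒱 𝒲 : Ω → Set (Subgroup G)} {a c c' d e : Ω}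

namespace Geo

variable (h : Geo n N 𝒱 𝒲)
include h

omit [Finite Ω] in
theorem plane_thru (hV : V ∈ 𝒱 c) (d : Ω) : ∃ W ∈ 𝒲 c, V ⊓ W ≠ ⊥ ∧ W ≤ N d := by
  by_cases hcd : c = d
  · obtain ⟨W, hW, i, -⟩ := (h.p c).l.join V hV V hV
    exact ⟨W, hW, i, hcd ▸ (h.p c).r.le W hW⟩
  obtain ⟨V', hV', h1, -⟩ := h.par c d hcd
  obtain ⟨W, hW, i, i'⟩ := (h.p c).l.join V hV V' hV'
  exact ⟨W, hW, i, h.w_le hV' hW i' h1⟩

omit [Finite Ω] in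
theorem ex (hV : V ∈ 𝒱 c) (d : Ω) : ∃ V' ∈ 𝒱 d, V ⊓ V' ≠ ⊥ := by
  obtain ⟨W, hW, i, h1⟩ := h.plane_thru hV d
  obtain ⟨z, a1, a2, z1⟩ := exists_of_inc i
  obtain ⟨V', hV', a3⟩ := (h.p d).l.cover z (h1 a2) ((h.p c).l.sq V hV z a1)
  exact ⟨V', hV', inc_of_mem a1 a3 z1⟩

omit [Finite Ω] in
theorem disj (hV : V ∈ 𝒱 c) (hV' : V' ∈ 𝒱 d) (i : V ⊓ V' ≠ ⊥) (h1 : V ≤ N e) (h2 : V' ≤ N e) :
    V = V' := (h.p e).l.disj V (h.mem_v hV h1) V' (h.mem_v hV' h2) i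

omit [Finite Ω] in
theorem nm_line (hcd : c ≠ d) (hM : M ∈ 𝒱 c) (h1 : M ≤ N d) (h2 : M ≤ N (g • c))
    (h3 : M ≤ N (g • d)) : g ∈ nm M :=
  mem_nm_iff.2 (h.v_eq (fun e => hcd (MulAction.injective g e)) (h.cv g c M hM) (h.mem_v hM h2)
    (h.le_cj g h1) h3)

omit [Finite Ω] in
theorem inv_mem_N (hV : V ∈ 𝒱 c) (hs : s ∈ N c ⊓ nm V) (h2 : s * s = 1) (hd : V ≤ N d) :
    s ∈ N d := by
  by_cases h3 : s = 1
  · exact h3 ▸ one_mem _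
  obtain ⟨X, hX, h4⟩ := (h.p c).r.cover s hs.1 h2
  exact h.w_le hV hX (((h.p c).l.norm V hV X hX s h4 h3).1 hs.2) hd h4

variable (hm : ∀ c, ∀ V ∈ 𝒱 c, (Fx N V).ncard = 2 ^ n)
include hm

omit [Finite Ω] in
theorem meet (hV : V ∈ 𝒱 c) (hW : W ∈ 𝒲 c) (i : V ⊓ W ≠ ⊥) (hd : W ≤ N d) (hd' : ¬ V ≤ N d)
    (h1 : V₁ ∈ 𝒱 d) (h2 : V₂ ∈ 𝒱 d) (i1 : V₁ ⊓ W ≠ ⊥) (i2 : V₂ ⊓ W ≠ ⊥)
    (n1 : ∀ e, V ≤ N e → ¬ V₁ ≤ N e) (n2 : ∀ e, V ≤ N e → ¬ V₂ ≤ N e) : V₁ = V₂ := by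
  by_contra ne
  have mW := h.mem_w hW hd
  have k : ∀ e ∈ Fx N V, d ≠ e := fun e he e' => hd' (e' ▸ he)
  choose f f1 f2 using fun e (he : e ∈ Fx N V) => h.par d e (k e he)
  have h3 := Set.ncard_sdiff_singleton_add_one (s := {X ∈ 𝒱 d | W ⊓ X ≠ ⊥}) (a := V₁)
    ⟨h1, inc_symm i1⟩
  rw [(h.p d).symm.card_lines mW] at h3
  obtain ⟨e, he, h4⟩ := Set.surj_on_of_inj_on_of_ncard_le (t := {X ∈ 𝒱 d | W ⊓ X ≠ ⊥} \ {V₁}) f
    (fun e he => ⟨⟨f1 e he, inc_symm (h.inc_of_le (k e he) (f1 e he) mW (f2 e he).1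
      (h.w_le hV hW i he))⟩, fun e' => n1 e he (e' ▸ (f2 e he).1 :)⟩)
    (fun e e' he he' h4 => by_contra fun h5 => hd' (by
      rw [h.v_eq h5 (h.mem_v hV he) (h.mem_v (f1 e he) (f2 e he).1) he' (h4 ▸ (f2 e' he').1)]
      exact (h.p d).l.le _ (f1 e he)))
    (by rw [hm c V hV]; omega) (Set.toFinite _) V₂ ⟨⟨h2, inc_symm i2⟩, Ne.symm ne⟩
  exact n2 e he (h4 ▸ (f2 e he).1)

omit [Finite Ω] in
theorem uniq (hV : V ∈ 𝒱 c) (h1 : V₁ ∈ 𝒱 d) (h2 : V₂ ∈ 𝒱 d) (i1 : V ⊓ V₁ ≠ ⊥) (i2 : V ⊓ V₂ ≠ ⊥) :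
    V₁ = V₂ := by
  have p := h.p d
  by_cases hd : V ≤ N d
  · rw [← h.disj hV h1 i1 hd (p.l.le _ h1), ← h.disj hV h2 i2 hd (p.l.le _ h2)]
  obtain ⟨W, hW, i, h3⟩ := h.plane_thru hV d
  have k : ∀ X ∈ 𝒱 d, V ⊓ X ≠ ⊥ → X ⊓ W ≠ ⊥ ∧ ∀ e, V ≤ N e → ¬ X ≤ N e := fun X hX j => by
    obtain ⟨z, a1, a2, z1⟩ := exists_of_inc j
    exact ⟨inc_of_mem a2 (h.mem_of_fix hV hW i h3 hd a1 (h.fix d (p.l.le X hX a2))) z1,
      fun e b1 b2 => hd (h.disj hV hX j b1 b2 ▸ p.l.le X hX)⟩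
  exact h.meet hm hV hW i h3 hd h1 h2 (k _ h1 i1).1 (k _ h2 i2).1 (k _ h1 i1).2 (k _ h2 i2).2

omit [Finite Ω] in
theorem tv (hV : V ∈ 𝒱 c) (hz : z ∈ V) (h1 : z • d ≠ d) (hM : M ∈ 𝒱 d) (h2 : M ≤ N (z • d)) :
    V ⊓ M ≠ ⊥ := by
  have p := h.p d
  have hd : ¬ V ≤ N d := fun e => h1 (h.fix d (e hz))
  have z2 := (h.p c).l.sq V hV z hz
  obtain ⟨W, hW, i, h3⟩ := h.plane_thru hV d
  obtain ⟨y, a1, a2, y1⟩ := exists_of_inc i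
  obtain ⟨V', hV', a3⟩ := p.l.cover y (h3 a2) ((h.p c).l.sq V hV y a1)
  have j := inc_of_mem a1 a3 y1
  rwa [h.meet hm hV hW i h3 hd hM hV' (h.inc_of_le h1.symm hM (h.mem_w hW h3) h2
    (h.le_nm_smul ((h.p c).symm.le_nm hW hV (inc_symm i) hz) h3)) (inc_of_mem a3 a2 y1)
    (fun e b1 b2 => h1 (h.fix d (h.inv_mem_N (h.mem_v hM b2) ⟨b1 hz, h.nm_line h1.symm hM h2 h2
      (by rw [smul_smul, z2, one_smul]; exact p.l.le M hM)⟩ z2 (p.l.le M hM))))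
    fun e b1 b2 => hd (h.disj hV hV' j b1 b2 ▸ p.l.le _ hV')]

theorem trans (hV : V ∈ 𝒱 c) (hV' : V' ∈ 𝒱 c') (hV'' : V'' ∈ 𝒱 d) (i : V ⊓ V' ≠ ⊥)
    (i' : V' ⊓ V'' ≠ ⊥) : V ⊓ V'' ≠ ⊥ := by
  obtain ⟨z, a1, a2, z1⟩ := exists_of_inc i
  have z2 := (h.p c).l.sq V hV z a1
  by_cases h1 : z • d = d
  · obtain ⟨X, hX, a3⟩ := (h.p d).l.cover z (h.star ((h.p c).l.le V hV a1) z2 h1) z2
    exact h.uniq hm hV' hX hV'' (inc_of_mem a2 a3 z1) i' ▸ inc_of_mem a1 a3 z1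
  · obtain ⟨M, hM, h2, -⟩ := h.par d _ (Ne.symm h1)
    exact h.uniq hm hV' hM hV'' (h.tv hm hV' a2 h1 hM h2) i' ▸ h.tv hm hV a1 h1 hM h2

omit [Finite Ω] in
theorem inf_le_par (hV : V ∈ 𝒱 c) (hV' : V' ∈ 𝒱 d) (i : V ⊓ V' ≠ ⊥) (hW : W ≤ N d) :
    V ⊓ W ≤ V' := fun y hy => by
  by_cases y1 : y = 1
  · exact y1 ▸ one_mem _
  obtain ⟨X, hX, a⟩ := (h.p d).l.cover y (hW hy.2) ((h.p c).l.sq V hV y hy.1)
  exact h.uniq hm hV hX hV' (inc_of_mem hy.1 a y1) i ▸ a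

theorem exists_cent (c : Ω) : ∃ W ∈ 𝒲 c, ∃ g ∈ ce W, g ∉ W := by
  have p := h.p c
  obtain ⟨V, hV, -⟩ := p.l.cover 1 (one_mem _) (one_mul _)
  obtain ⟨W, hW, i, -⟩ := p.l.join V hV V hV
  obtain ⟨M, hM, iM, ne⟩ := p.symm.other hW hV
  obtain ⟨d, hd, hcd⟩ := Set.exists_ne_of_one_lt_ncard (s := Fx N M)
    (by rw [hm c M hM]; exact p.two_le) c
  have p' := h.p d
  have hWd := h.w_le hM hW (inc_symm iM) hd
  have mW := h.mem_w hW hWd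
  have hVd : ¬ V ≤ N d := fun e => ne (h.v_eq hcd.symm hM hV hd e)
  have hVW := p.symm.le_nm hW hV (inc_symm i)
  obtain ⟨t, ht, ht'⟩ := SetLike.not_le_iff_exists.1 (p.not_le hV hW)
  obtain ⟨V', hV', j⟩ := h.ex hV d
  have m1 := p.l.conj M hM t (p.l.le V hV ht)
  obtain ⟨M', hM', j'⟩ := h.ex m1 d
  have l1 := h.inf_le_par hm hV hV' j hWd
  have l2 := h.inf_le_par hm hV' hV (inc_symm j) (p.r.le W hW)
  have l3 := h.inf_le_par hm m1 hM' j' hWd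
  have k : ∀ {X Y}, X ⊓ W ≠ ⊥ → X ⊓ W ≤ Y → Y ⊓ W ≠ ⊥ := fun h1 h2 e =>
    h1 (eq_bot_iff.2 (e ▸ le_inf h2 inf_le_right))
  have i' := k i l1
  obtain ⟨u, hu, e⟩ := p'.trans_line hV' mW i' (h.mem_v hM hd) hM' (inc_symm iM)
    (k (cj_eq (hVW ht) ▸ inc_cj t (inc_symm iM)) l3)
    (fun e => ne (p.l.disj M hM V hV (e ▸ inc_symm j))) fun e => ne (by
      rw [← cj_inv t M, p.l.disj _ m1 V hV (h.trans hm m1 hM' hV j' (e ▸ inc_symm j)),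
        cj_eq (inv_mem (le_normalizer ht))])
  have e1 : (V ⊓ W) ⊓ (M ⊓ W) = ⊥ := by_contra fun e => ne (p.l.disj M hM V hV fun e' => e
    (eq_bot_iff.2 (e' ▸ le_inf (inf_le_right.trans inf_le_left) (inf_le_left.trans inf_le_left))))
  have e2 : (V ⊓ W) ⊔ (M ⊓ W) = W := H91.eq_of_le_of_card_le (sup_le inf_le_right inf_le_right) (by
    have := card_sup_mul (X := V ⊓ W) (Y := M ⊓ W) fun x hx =>
      nm_inf (p.le_nm hM hW (inc_symm iM) hx.2) (le_normalizer hx.2)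
    rw [e1, card_bot, mul_one, p.l.inf V hV W hW i, p.l.inf M hM W hW (inc_symm iM)] at this
    rw [this, p.r.card W hW])
  refine ⟨W, hW, u⁻¹ * t, ?_, fun h1 => ht' (h.mem_of_fix hV hW i hWd hVd ht ?_)⟩
  · have : (V ⊓ W) ⊔ (M ⊓ W) ≤ centralizer {u⁻¹ * t} := sup_le (fun y hy =>
      mem_centralizer_singleton_iff.2 (Commute.mul_right
        (Commute.inv_right (comm_of_sq (p'.l.sq V' hV') (l1 hy) hu))
        (comm_of_sq (p.l.sq V hV) hy.1 ht))) fun y hy => by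
        have h1 := p.comm_mem hV hW i ht hy.2
        have h2 := p'.comm_mem hV' mW i' (inv_mem hu) hy.2
        have h3 : ⁅u⁻¹ * t, y⁆ ∈ V ⊓ W := by
          rw [comm_mul_left, comm_of_sq (p'.l.sq V' hV') (inv_mem hu) (l1 h1), mul_inv_cancel_right]
          exact mul_mem h1 ⟨l2 h2, h2.2⟩
        have h4 : t * y * t⁻¹ ∈ cj u M := e ▸ l3 ⟨conj_mem_cj t hy.1, conj_mem (hVW ht) hy.2⟩
        have h5 : ⁅u⁻¹ * t, y⁆ ∈ M := by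
          convert mul_mem (mem_cj.1 h4) (inv_mem hy.1) using 1
          rw [commutatorElement_def]; group
        exact mem_centralizer_singleton_iff.2 (commutatorElement_eq_one_iff_mul_comm.1
          (mem_bot.1 (e1 ▸ mem_inf.2 ⟨h3, h5, h3.2⟩))).symm
    rw [e2] at this
    exact mem_ce.2 fun w hw => mem_centralizer_singleton_iff.1 (this hw)
  · have := h.fix d (hWd h1)
    rwa [mem_stabilizer_iff, mul_smul, inv_smul_eq_iff, h.fix d (p'.l.le V' hV' hu)] at this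

theorem par_all (hW : W ∈ 𝒲 c) (hg : g ∈ ce W) :
    ∃ w ∈ W, ∀ d, ∀ V ∈ 𝒱 d, V ⊓ cj (w⁻¹ * g) V ≠ ⊥ := by
  have p := h.p c
  have k1 : ∀ g ∈ ce W, ∀ V, V ⊓ W ≠ ⊥ → V ⊓ cj g V ≠ ⊥ := fun g hg V i => by
    obtain ⟨z, a1, a2, z1⟩ := exists_of_inc i
    have := conj_mem_cj g a1
    rw [← mem_ce.1 hg z a2, mul_inv_cancel_right] at this
    exact inc_of_mem a1 this z1
  have k2 : ∀ w ∈ W, w⁻¹ * g ∈ ce W := fun w hw => mul_mem (inv_mem (mem_ce.2 fun x hx =>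
    comm_of_sq (p.r.sq W hW) hx hw)) hg
  suffices ∃ w ∈ W, ∀ V ∈ 𝒱 c, V ⊓ cj (w⁻¹ * g) V ≠ ⊥ by
    obtain ⟨w, hw, h1⟩ := this
    refine ⟨w, hw, fun d V hV => ?_⟩
    obtain ⟨V', hV', i⟩ := h.ex hV c
    exact h.trans hm hV (h.cv _ c V' hV') (h.cv _ d V hV)
      (h.trans hm hV hV' (h.cv _ c V' hV') i (h1 V' hV')) (inc_cj _ (inc_symm i))
  by_cases h1 : ∃ V ∈ 𝒱 c, V ⊓ W = ⊥
  · obtain ⟨V, hV, i⟩ := h1
    have m1 := h.cv g c V hV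
    obtain ⟨V', hV', j⟩ := h.ex m1 c
    obtain ⟨w, hw, e⟩ := p.l.reg W hW V hV V' hV' i (by_contra fun i' => i' (by
      have := inc_cj g⁻¹ (h.trans hm m1 hV' (h.cv g c V' hV') j (k1 g hg V' i'))
      rw [cj_inv, cj_inv] at this
      exact p.l.disj V hV V' hV' this ▸ i))
    refine ⟨w, hw, fun X hX => ?_⟩
    by_cases i' : X ⊓ W = ⊥
    · obtain ⟨w', hw', rfl⟩ := p.l.reg W hW V hV X hX i i'
      rw [cj_cj, ← mem_ce.1 (k2 w hw) w' hw', ← cj_cj w', ← cj_cj]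
      have := inc_cj w⁻¹ (inc_symm j)
      rw [← e, cj_inv] at this
      exact inc_cj w' this
    · exact k1 _ (k2 w hw) X i'
  · push Not at h1
    exact ⟨1, one_mem _, fun V hV => k1 _ (k2 1 (one_mem _)) V (h1 V hV)⟩

theorem regN (c : Ω) : RegN G Ω := by
  let E : Subgroup G :=
    { carrier := {g | ∀ c, ∀ V ∈ 𝒱 c, V ⊓ cj g V ≠ ⊥}
      one_mem' := fun c V hV => by rw [cj_one, inf_idem]; exact (h.p c).ne_bot hV
      mul_mem' := fun {x y} hx hy c V hV => h.trans hm hV (h.cv x c V hV) (h.cv _ c V hV)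
        (hx c V hV) (cj_cj x y V ▸ inc_cj x (hy c V hV))
      inv_mem' := fun {x} hx c V hV => by
        have := inc_cj x⁻¹ (hx c V hV)
        rw [cj_inv] at this
        exact inc_symm this }
  obtain ⟨W, hW, g, hg, hg'⟩ := h.exists_cent hm c
  obtain ⟨w, hw, h1⟩ := h.par_all hm hW hg
  refine fr h.t2 (E := E) ⟨fun x hx g c V hV => ?_⟩ (fun e => hg' ?_)
    (fun g hg x y ne e1 e2 => h.Z_semi ne ((h.p x).cent_of_nm (h.nm_N e1) fun V hV =>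
      mem_nm_iff.2 ((h.p x).l.disj V hV _ (e1 ▸ h.cv g x V hV) (hg x V hV)).symm) e2) c
  · have := inc_cj g (hx _ _ (h.cv g⁻¹ c V hV))
    rwa [cj_inv', cj_cj, cj_cj] at this
  · have h2 : w⁻¹ * g ∈ E := h1
    rw [e, mem_bot, inv_mul_eq_one] at h2
    exact h2 ▸ hw

theorem aff_trans (a : Ω) : (∀ x y : Ω, x ≠ a → y ≠ a → ∃ g ∈ N a, g • x = y) ∧ Odd n := by
  have p := h.p a
  obtain ⟨V, hV, H, hH, s, hs, s1, s2, s3, s4, s5, s6⟩ := p.l.tor2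
  have mV := p.l.conj V hV s hs
  have key : ∀ x ∈ H, ∀ c, a ≠ c → V ≤ N c → x • c = c → x = 1 := fun x hx c hc h1 h2 => by
    by_contra x1
    have h3 : x • s • c = s • c := by
      rw [← inv_smul_eq_iff.1 (s4 x hx ▸ (by rw [mul_smul, mul_smul, inv_smul_smul, h2] :
        (s * x * s⁻¹) • s • c = s • c))]
    have h4 := h.le_cj s h1
    have n1 : a ≠ s • c := fun e => hc (MulAction.injective s ((h.fix a hs).trans e))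
    have n2 : c ≠ s • c := fun e => s1 (h.v_eq hc mV hV (e ▸ h4) h1)
    obtain ⟨M, hM, h5, -⟩ := h.par c _ n2
    obtain ⟨W, hW, i1, i2⟩ := p.l.join V hV _ mV
    have h6 := h.w_le hV hW i1 h1
    obtain ⟨z, a1, a2, z1⟩ := exists_of_inc (h.inc_of_le n2 hM (h.mem_w hW h6) h5
      (h.w_le mV hW i2 h4))
    obtain ⟨V', hV', a3⟩ := p.l.cover z (p.r.le W hW a2) (p.r.sq W hW z a2)
    have j := inc_of_mem a1 a3 z1
    have h7 := h.nm_line n2 hM h5 (h2.symm ▸ (h.p c).l.le M hM) (h3.symm ▸ h5)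
    rcases s5 x hx x1 V' hV' W hW i1 i2 (inc_of_mem a3 a2 z1) (mem_nm_iff.2 (h.uniq hm hM
      (p.l.conj V' hV' x (hH hx)) hV' (cj_eq h7 ▸ inc_cj x j) j)) with e | e
    · rw [e] at j
      exact s1 (h.v_eq n1 mV hV h4 (h.disj hM hV j ((h.p c).l.le M hM) h1 ▸ h5))
    · rw [e] at j
      exact s1 (h.v_eq hc mV hV (h.disj hM mV j h5 h4 ▸ (h.p c).l.le M hM) h1)
  have h1 := Set.ncard_sdiff_singleton_add_one (s := Fx N V) (p.l.le V hV)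
  have h2 : ∀ x, x ≠ a → ∃ g ∈ N a, g • x ∈ Fx N V \ {a} := fun x hx => by
    obtain ⟨X, hX, h2, -⟩ := h.par a x hx.symm
    obtain ⟨g, hg, e⟩ := p.l.trans X hX V hV
    exact ⟨g, hg, e ▸ h.le_cj g h2, fun e => hx (MulAction.injective g (e.trans (h.fix a hg).symm))⟩
  refine ⟨fun x y hx hy => ?_, Nat.not_even_iff_odd.1 fun he => ?_⟩
  · obtain ⟨g, hg, h3⟩ := h2 x hx
    obtain ⟨k, hk, h4⟩ := h2 y hy
    have h5 : {y | ∃ u ∈ H, u • g • x = y} = Fx N V \ {a} := Set.eq_of_subset_of_ncard_le (by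
      rintro _ ⟨u, hu, rfl⟩
      exact ⟨h.le_nm_smul (s3 hu) h3.1, fun e => h3.2 (MulAction.injective u
        (e.trans (h.fix a (hH hu)).symm))⟩) (by
      rw [orb_card, ← inf_relIndex_right, (eq_bot_iff (a := stabilizer G (g • x) ⊓ H)).2
        fun u hu => key u hu.2 _ (Ne.symm h3.2) h3.1 hu.1, relIndex_bot_left]
      rw [hm a V hV] at h1
      omega)
    obtain ⟨u, hu, e⟩ := h5.ge h4
    exact ⟨k⁻¹ * u * g, mul_mem (mul_mem (inv_mem hk) (hH hu)) hg, by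
      rw [mul_smul, mul_smul, e, inv_smul_smul]⟩
  · obtain ⟨x, hx, y, hy, a1, a2, a3, a4⟩ := s6 he
    obtain ⟨b, hb⟩ := h.exists_ne a
    obtain ⟨g, -, h3⟩ := h2 b hb.symm
    exact a4 (key _ a3 _ (Ne.symm h3.2) h3.1 (h.fix _ (mul_mem (h.inv_mem_N hV hx a1 h3.1)
      (h.inv_mem_N hV hy a2 h3.1))))

end Geo

end Cfsg.Agent.H32.P3
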