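import Cfsg.Agent.H32.P3Star

/-! The two-point stabilizer in `N a` is not contained in a Borel subgroup. -/

set_option autoImplicit false

namespace Cfsg.Agent.H32.P3

open Subgroup MulAction Cfsg.Agent.SR3 Cfsg.Agent.H92 Cfsg.Agent.H12
open scoped commutatorElement

variable {G Ω : Type*} [Group G]

/-- Elementary abelian of order `4ⁿ`. -/
def El (n : ℕ) (X : Subgroup G) : Prop := (∀ x ∈ X, x * x = 1) ∧ Nat.card X = 2 ^ n * 2 ^ n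

theorem El.cj {n : ℕ} {X : Subgroup G} (h : El n X) (g : G) : El n (cj g X) :=
  ⟨by rintro _ ⟨x, hx, rfl⟩; rw [← map_mul, h.1 x hx, map_one], by rw [card_cj, h.2]⟩

variable [Finite G]

namespace Pl

variable {n : ℕ} {N V W X Y : Subgroup G} {𝒱 𝒲 : Set (Subgroup G)} (h : Pl n N 𝒱 𝒲)
include h

omit [Finite G] in
theorem el (hV : V ∈ 𝒱) : El n V := ⟨h.l.sq V hV, h.l.card V hV⟩

omit [Finite G] in
theorem ne (hV : V ∈ 𝒱) (hW : W ∈ 𝒲) : V ≠ W := fun e => h.l.nmem V hV (e ▸ hW)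

theorem flag_of (hX : El n X) (hY : El n Y) (h1 : X ≤ N) (h2 : Y ≤ N) (i : X ⊓ Y ≠ ⊥)
    (hn : X ≠ Y) : ∃ 𝒱 𝒲, Pl n N 𝒱 𝒲 ∧ X ∈ 𝒱 ∧ Y ∈ 𝒲 := by
  rcases h.el_mem h1 hX.1 hX.2 with a | a <;> rcases h.el_mem h2 hY.1 hY.2 with b | b
  exacts [(hn (h.l.disj X a Y b i)).elim, ⟨_, _, h, a, b⟩, ⟨_, _, h.symm, a, b⟩,
    (hn (h.r.disj X a Y b i)).elim]

end Pl

namespace Fam

variable [MulAction G Ω] [Finite Ω] {n : ℕ} {N : Ω → Subgroup G} {a b c d e : Ω} {g t v z : G}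
  {S T V W X Y : Subgroup G} {𝒱 𝒲 : Set (Subgroup G)} (h : Fam n N)
include h

theorem le_of_fix (hX : El n X) (h1 : X ≤ N c) (h2 : X ≤ stabilizer G d) : X ≤ N d :=
  fun x hx => h.star (h1 hx) (hX.1 x hx) (h2 hx)

omit [Finite Ω] in
theorem three_false (hX : El n X) (hY : El n Y) (hT : El n T) (h1 : X ≤ N c) (h2 : Y ≤ N c)
    (h3 : T ≤ N c) (z1 : z ≠ 1) (a1 : z ∈ X) (a2 : z ∈ Y) (a3 : z ∈ T) (n1 : X ≠ Y) (n2 : T ≠ X)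
    (n3 : T ≠ Y) : False := by
  obtain ⟨_, _, p⟩ := h.pl c
  obtain ⟨𝒱, 𝒲, p, hX', hY'⟩ := p.flag_of hX hY h1 h2 (inc_of_mem a1 a2 z1) n1
  exact (p.el_mem h3 hT.1 hT.2).elim (fun b => n2 (p.eq_of_mem b hX' a3 a1 z1))
    fun b => n3 (p.symm.eq_of_mem b hY' a3 a2 z1)

theorem flag_pt (p : Pl n (N c) 𝒱 𝒲) (hV : V ∈ 𝒱) (hW : W ∈ 𝒲) (i : V ⊓ W ≠ ⊥) :
    ∃ d, c ≠ d ∧ V ≤ N d ∧ W ≤ N d := by
  obtain ⟨b, hb⟩ := h.exists_ne c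
  obtain ⟨V', hV', W', hW', i', e⟩ := h.flag' hb p
  obtain ⟨g, hg, h1⟩ := (p.sylIn hV' hW' i').exists_conj (p.sylIn hV hW i).le
    (p.sylIn hV hW i).pgroup
  have h2 : V ⊔ W ≤ stabilizer G (g⁻¹ • b) := fun x hx => by
    rw [← cj_stab, mem_cj, inv_inv]; exact e (h1 x hx)
  exact ⟨g⁻¹ • b, fun e => hb (by rw [eq_inv_smul_iff, h.fix c hg] at e; exact e),
    h.le_of_fix (p.el hV) (p.l.le V hV) (le_sup_left.trans h2),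
    h.le_of_fix (p.symm.el hW) (p.r.le W hW) (le_sup_right.trans h2)⟩

omit [Finite G] [Finite Ω] h in
/-- The Borel case. -/
def Bor (n : ℕ) (N : Ω → Subgroup G) : Prop := ∀ c d, c ≠ d → ∃ X Y : Subgroup G,
  (∀ T, El n T → T ≤ N c → T ≤ N d → T = X ∨ T = Y) ∧
    ∀ z ∈ N c ⊓ N d, z * z = 1 → ∃ T, El n T ∧ T ≤ N c ∧ T ≤ N d ∧ z ∈ T

theorem bor (hab : a ≠ b) (p : Pl n (N a) 𝒱 𝒲) (hV : V ∈ 𝒱) (hW : W ∈ 𝒲) (i : V ⊓ W ≠ ⊥)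
    (e : V ⊔ W ≤ stabilizer G b) (h1 : N a ⊓ stabilizer G b ≤ nm V)
    (h2 : N a ⊓ stabilizer G b ≤ nm W) : Bor n N := fun c d hcd => by
  obtain ⟨g, rfl, rfl⟩ := h.t2.two hab hcd
  have k : ∀ {T c}, T ≤ N (g • c) → cj g⁻¹ T ≤ N c := fun {T c} h3 => by
    simpa [h.eqv] using cj_mono g⁻¹ h3
  have k' : ∀ {T c}, T ≤ N c → cj g T ≤ N (g • c) := fun {T c} h3 => h.eqv g c ▸ cj_mono g h3
  refine ⟨cj g V, cj g W, fun T hT t1 t2 => ?_, fun z hz z2 => ?_⟩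
  · have h3 := le_inf (k t1) ((k t2).trans (h.fix b))
    refine (p.el_mem (k t1) (hT.cj _).1 (hT.cj _).2).imp (fun h4 => ?_) fun h4 => ?_
    · rw [← p.eq_of_le_nm hV h4 (h3.trans h1), cj_inv']
    · rw [← p.symm.eq_of_le_nm hW h4 (h3.trans h2), cj_inv']
  · have h3 : g⁻¹ * z * g ∈ N a ⊓ stabilizer G b :=
      ⟨mem_cj.1 (h.eqv g a ▸ hz.1), h.fix b (mem_cj.1 (h.eqv g b ▸ hz.2))⟩
    rcases p.mem_of_nm_flag hV hW i h3.1 (by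
      rw [← inv_inv g, inv_inv g⁻¹, conj_mul, z2, mul_one, mul_inv_cancel])
      (nm_sup (h1 h3) (h2 h3)) with h4 | h4
    · exact ⟨_, (p.el hV).cj g, k' (p.l.le V hV),
        k' (h.le_of_fix (p.el hV) (p.l.le V hV) (le_sup_left.trans e)), mem_cj.2 h4⟩
    · exact ⟨_, (p.symm.el hW).cj g, k' (p.r.le W hW),
        k' (h.le_of_fix (p.symm.el hW) (p.r.le W hW) (le_sup_right.trans e)), mem_cj.2 h4⟩

variable (B : Bor n N)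
include B

omit [Finite G] [Finite Ω] [MulAction G Ω] h in
theorem _root_.Cfsg.Agent.H32.P3.Fam.Bor.three (hcd : c ≠ d) (hX : El n X) (hY : El n Y)
    (hT : El n T) (h1 : X ≤ N c) (h2 : Y ≤ N c) (h3 : T ≤ N c) (h4 : X ≤ N d) (h5 : Y ≤ N d)
    (h6 : T ≤ N d) (n1 : X ≠ Y) (n2 : T ≠ X) : T = Y := by
  obtain ⟨A, A', h, -⟩ := B c d hcd
  rcases h X hX h1 h4 with rfl | rfl <;> rcases h Y hY h2 h5 with rfl | rfl <;>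
    rcases h T hT h3 h6 with rfl | rfl <;> simp_all

theorem other_pt (p : Pl n (N c) 𝒱 𝒲) (hV : V ∈ 𝒱) (hW : W ∈ 𝒲) :
    ∃ d, V ≤ N d ∧ ¬ W ≤ N d := by
  obtain ⟨W₁, h1, i1, n1⟩ := p.other hV hW
  obtain ⟨d, hd, a1, a2⟩ := h.flag_pt p hV h1 i1
  exact ⟨d, a1, fun a3 => n1 (B.three hd (p.el hV) (p.symm.el hW) (p.symm.el h1) (p.l.le V hV)
    (p.r.le W hW) (p.r.le _ h1) a1 a3 a2 (p.ne hV hW) (p.ne hV h1).symm)⟩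

theorem tri (p : Pl n (N c) 𝒱 𝒲) (hV : V ∈ 𝒱) (hW : W ∈ 𝒲) (zV : z ∈ V) (zW : z ∈ W)
    (z1 : z ≠ 1) : ∃ T, El n T ∧ z ∈ T ∧ T ≠ V ∧ T ≠ W ∧ (∃ d, V ≤ N d ∧ T ≤ N d) ∧
      (∃ d, W ≤ N d ∧ T ≤ N d) ∧ (∀ d, V ≤ N d → ¬ W ≤ N d → T ≤ N d) ∧
      ∀ d, z ∈ N d → ¬ V ≤ N d → W ≤ N d ∧ T ≤ N d := by
  have z2 := p.l.sq V hV z zV
  have eV := p.el hV
  have eW := p.symm.el hW
  have I : ∀ {X Y d e}, El n X → El n Y → X ≠ Y → z ∈ X → z ∈ Y → X ≤ N d → Y ≤ N d → z ∈ N e →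
      X ≤ N e ∨ Y ≤ N e := fun {X Y d e} a1 a2 a3 a4 a5 a6 a7 a8 => by
    by_cases hde : d = e
    · exact Or.inl (hde ▸ a6)
    obtain ⟨_, _, -, k⟩ := B d e hde
    obtain ⟨T, b1, b2, b3, b4⟩ := k z ⟨a6 a4, a8⟩ z2
    by_contra hn
    push Not at hn
    exact h.three_false a1 a2 b1 a6 a7 b2 z1 a4 a5 b4 a3 (fun e => hn.1 (e ▸ b3))
      fun e => hn.2 (e ▸ b3)
  obtain ⟨d1, a1, a2⟩ := h.other_pt B p hV hW
  obtain ⟨d2, b1, b2⟩ := h.other_pt B p.symm hW hV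
  obtain ⟨T, eT, zT, T1, T2⟩ : ∃ T, El n T ∧ z ∈ T ∧ T ≠ V ∧ T ≤ N d1 := by
    obtain ⟨𝒱', 𝒲', p'⟩ := h.pl d1
    obtain ⟨X, hX, zX⟩ := p'.l.cover z (a1 zV) z2
    obtain ⟨Y, hY, zY⟩ := p'.r.cover z (a1 zV) z2
    by_cases e : X = V
    · exact ⟨Y, p'.symm.el hY, zY, e ▸ (p'.ne hX hY).symm, p'.r.le Y hY⟩
    · exact ⟨X, p'.el hX, zX, e, p'.l.le X hX⟩
  have T3 : T ≠ W := fun e => a2 (e ▸ T2)
  have T4 : T ≤ N d2 := (I eV eT T1.symm zV zT a1 T2 (b1 zW)).resolve_left b2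
  exact ⟨T, eT, zT, T1, T3, ⟨d1, a1, T2⟩, ⟨d2, b1, T4⟩,
    fun d c1 c2 => (I eW eT T3.symm zW zT b1 T4 (c1 zV)).resolve_left c2,
    fun d c1 c2 => ⟨(I eV eW (p.ne hV hW) zV zW (p.l.le V hV) (p.r.le W hW) c1).resolve_left c2,
      (I eV eT T1.symm zV zT a1 T2 c1).resolve_left c2⟩⟩

theorem two_pts (hX : El n X) (hY : El n Y) (i : X ⊓ Y ≠ ⊥) (hn : X ≠ Y) (h1 : X ≤ N c)
    (h2 : Y ≤ N c) (h3 : X ≤ N d) (h4 : Y ≤ N d) (h5 : X ≤ N e) (h6 : Y ≤ N e) (n1 : c ≠ d)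
    (n2 : c ≠ e) : d = e := by
  by_contra n3
  obtain ⟨_, _, p⟩ := h.pl c
  obtain ⟨𝒱, 𝒲, p, hX', hY'⟩ := p.flag_of hX hY h1 h2 i hn
  obtain ⟨W, hW, i', n4⟩ := p.other hX' hY'
  obtain ⟨z, zX, zW, z1⟩ := exists_of_inc i'
  obtain ⟨T, eT, zT, T1, T2, -, -, k, -⟩ := h.tri B p hX' hW zX zW z1
  have eW := p.symm.el hW
  have k' : ∀ d, c ≠ d → X ≤ N d → Y ≤ N d → T ≤ N d := fun d a1 a2 a3 => k d a2 fun a4 =>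
    n4 (B.three a1 hX hY eW h1 h2 (p.r.le W hW) a2 a3 a4 hn (p.ne hX' hW).symm)
  have e := B.three n3 hX hY eT h3 h4 (k' d n1 h3 h4) h5 h6 (k' e n2 h5 h6) hn T1
  exact h.three_false hX eW eT h1 (p.r.le W hW) (e ▸ h2) z1 zX zW zT (p.ne hX' hW) T1 T2

theorem bor_false (c : Ω) : False := by
  obtain ⟨𝒱, 𝒲, p⟩ := h.pl c
  obtain ⟨V, hV, -⟩ := p.l.cover 1 (one_mem _) (one_mul _)
  obtain ⟨W, hW, i, -⟩ := p.l.join V hV V hV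
  obtain ⟨z, zV, zW, z1⟩ := exists_of_inc i
  obtain ⟨T, eT, zT, T1, T2, ⟨d1, a1, a2⟩, ⟨d2, b1, b2⟩, k, -⟩ := h.tri B p hV hW zV zW z1
  have eV := p.el hV
  have eW := p.symm.el hW
  have q2 : 2 ^ n = 2 := by
    by_contra hq
    have h1 := Set.ncard_sdiff_singleton_add_one (s := {W ∈ 𝒲 | V ⊓ W ≠ ⊥}) (a := W) ⟨hW, i⟩
    have h2 := p.two_le
    rw [p.card_lines hV] at h1
    obtain ⟨X1, x1, X2, x2, X3, x3, n1, n2, n3⟩ := (Set.two_lt_ncard (Set.toFinite _)).1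
      (by omega : 2 < ({W ∈ 𝒲 | V ⊓ W ≠ ⊥} \ {W}).ncard)
    have k1 : ∀ {X Y d}, X ∈ 𝒲 → Y ∈ 𝒲 → c ≠ d → V ≤ N d → X ≤ N d → Y ≤ N d → X = Y :=
      fun {X Y d} s1 s2 s3 s4 s5 s6 => B.three s3 eV (p.symm.el s2) (p.symm.el s1) (p.l.le V hV)
        (p.r.le _ s2) (p.r.le _ s1) s4 s6 s5 (p.ne hV s2) (p.ne hV s1).symm
    obtain ⟨e1, r1, s1, t1⟩ := h.flag_pt p hV x1.1.1 x1.1.2
    obtain ⟨e2, r2, s2, t2⟩ := h.flag_pt p hV x2.1.1 x2.1.2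
    obtain ⟨e3, r3, s3, t3⟩ := h.flag_pt p hV x3.1.1 x3.1.2
    have := h.two_pts B eV eT (inc_of_mem zV zT z1) T1.symm s1
      (k e1 s1 fun u => x1.2 (k1 x1.1.1 hW r1 s1 t1 u)) s2
      (k e2 s2 fun u => x2.2 (k1 x2.1.1 hW r2 s2 t2 u)) s3
      (k e3 s3 fun u => x3.2 (k1 x3.1.1 hW r3 s3 t3 u))
      (fun e => n1 (k1 x1.1.1 x2.1.1 r1 s1 t1 (e ▸ t2)))
      fun e => n2 (k1 x1.1.1 x3.1.1 r1 s1 t1 (e ▸ t3))
    exact n3 (k1 x2.1.1 x3.1.1 r2 s2 t2 (this ▸ t3))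
  have K : ∀ {X Y d}, El n X → El n Y → X ≠ Y → z ∈ X → z ∈ Y → X ≤ N d → Y ≤ N d →
      (∀ x ∈ X ⊓ Y, x = 1 ∨ x = z) ∧ Y ≤ nm X ∧ (∃ y ∈ Y, y ∉ X) ∧
        ∀ x ∈ X, x ∉ Y → ∀ y ∈ Y, y ∉ X → ⁅x, y⁆ = z := fun {X Y d} c1 c2 c3 c4 c5 c6 c7 => by
    obtain ⟨_, _, p⟩ := h.pl d
    have j := inc_of_mem c4 c5 z1
    obtain ⟨𝒱, 𝒲, p, hX, hY⟩ := p.flag_of c1 c2 c6 c7 j c3
    have h1 := (p.l.inf X hX Y hY j).trans q2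
    exact ⟨fun x hx => (em _).imp_right fun x1 => eq_of_card_two h1 hx ⟨c4, c5⟩ x1 z1,
      p.le_nm hX hY j, SetLike.not_le_iff_exists.1 (p.symm.not_le hY hX),
      fun x hx hx' y hy hy' => eq_of_card_two h1 (p.comm_mem hX hY j hx hy) ⟨c4, c5⟩
        (fun e => (p.comm_ne hX hY j hx hy (commutatorElement_eq_one_iff_mul_comm.1 e)).elim
          hx' hy') z1⟩
  obtain ⟨K1, K2, ⟨w, hw, hw'⟩, K3⟩ := K eV eW (p.ne hV hW) zV zW (p.l.le V hV) (p.r.le W hW)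
  obtain ⟨L1, L2, ⟨u, hu, hu'⟩, L3⟩ := K eV eT T1.symm zV zT a1 a2
  obtain ⟨M1, -, -, M3⟩ := K eW eT T2.symm zW zT b1 b2
  obtain ⟨v, hv, hv'⟩ := SetLike.not_le_iff_exists.1 (p.not_le hV hW)
  have c1 := K3 v hv hv' w hw hw'
  have c2 := L3 v hv (fun e => hv' ((L1 v ⟨hv, e⟩).elim (· ▸ one_mem _) (· ▸ zW))) u hu hu'
  have c3 := M3 w hw (fun e => hw' ((M1 w ⟨hw, e⟩).elim (· ▸ one_mem _) (· ▸ zV))) u hu
    fun e => hu' ((M1 u ⟨e, hu⟩).elim (· ▸ one_mem _) (· ▸ zV))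
  have c4 : w * u * (w * u) = z := by
    rw [← c3, commutatorElement_def, inv_of_sq (eW.1 w hw), inv_of_sq (eT.1 u hu)]; group
  have c5 : w * u * v = v * (w * u) := by
    refine (commutatorElement_eq_one_iff_mul_comm.1 ?_).symm
    rw [comm_mul_right, c1, c2, comm_of_sq eW.1 hw zW, mul_inv_cancel_right, eW.1 z zW]
  have v1 : v ≠ 1 := fun e => hv' (e ▸ one_mem _)
  obtain ⟨W', hW', vW⟩ := p.r.cover v (p.l.le V hV hv) (eV.1 v hv)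
  obtain ⟨T', eT', vT, U1, U2, -, ⟨d, f1, f2⟩, -, k'⟩ := h.tri B p hV hW' hv vW v1
  have f3 : ¬ V ≤ N d := fun e => h.three_false eV (p.symm.el hW') eT' e f1 f2 v1 hv vW vT
    (p.ne hV hW') U1 U2
  have st : ∀ d, v ∈ N d ∧ ¬ V ≤ N d → v ∈ N ((w * u) • d) ∧ ¬ V ≤ N ((w * u) • d) :=
    fun d hd => ⟨h.N_comm hd.1 c5, fun e => hd.2 (by
      have := cj_mono (w * u)⁻¹ e
      rwa [h.eqv, cj_eq (inv_mem (mul_mem (K2 hw) (L2 hu))), inv_smul_smul] at this)⟩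
  have g1 := st d ⟨f1 vW, f3⟩
  have g2 := st _ g1
  have g3 : z • d = d := by
    rw [← c4, mul_smul (w * u)]
    by_contra hn
    have g4 : d ≠ (w * u) • d := fun e => hn (by rw [← e, ← e])
    exact g4 (MulAction.injective _ (h.two_pts B (p.symm.el hW') eT' (inc_of_mem vW vT v1) U2.symm
      f1 f2 (k' _ g1.1 g1.2).1 (k' _ g1.1 g1.2).2 (k' _ g2.1 g2.2).1 (k' _ g2.1 g2.2).2 g4
      (Ne.symm hn)))
  refine f3 ?_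
  rw [← sup_zpowers_eq (p := 2) (X := V ⊓ W) (pg_of_sq eV.1) inf_le_left
    (by rw [eV.2, p.l.inf V hV W hW i, q2]) hv fun e => hv' e.2]
  exact sup_le (fun x hx => (K1 x hx).elim (· ▸ one_mem _)
    (· ▸ h.star (p.l.le V hV zV) (eV.1 z zV) g3)) (zpowers_le_of_mem (f1 vW))

end Fam

end Cfsg.Agent.H32.P3
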