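import Cfsg.Agent.H32.P3Pl2
import Cfsg.Agent.H12.TwoTr

/-! Doubly transitive groups of even degree whose point stabilizer has a normal `PSL₃(2ⁿ)`. -/

set_option autoImplicit false

namespace Cfsg.Agent.H32.P3

open Subgroup MulAction Cfsg.Agent.SR3 Cfsg.Agent.H92 Cfsg.Agent.H12
open scoped commutatorElement

variable {G Ω : Type*} [Group G] [MulAction G Ω]

theorem orb_card (A : Subgroup G) (x : Ω) :
    {y | ∃ a ∈ A, a • x = y}.ncard = (stabilizer G x).relIndex A := by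
  have e : {y | ∃ a ∈ A, a • x = y} = orbit A x := by
    ext y; exact ⟨fun ⟨a, h, e⟩ => ⟨⟨a, h⟩, e⟩, fun ⟨a, e⟩ => ⟨a, a.2, e⟩⟩
  rw [e, relIndex, ← index_stabilizer]; rfl

theorem cj_stab (g : G) (c : Ω) : cj g (stabilizer G c) = stabilizer G (g • c) := by
  ext x; rw [mem_cj, mem_stabilizer_iff, mem_stabilizer_iff, mul_smul, mul_smul, inv_smul_eq_iff]

theorem nm_stab {g : G} {c : Ω} (h : g • c = c) : g ∈ nm (stabilizer G c) := by
  rw [mem_nm_iff, cj_stab, h]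

theorem mem_of_syl [Finite G] {S A B : Subgroup G} {g : G} (hS : SylIn 2 S A) (h1 : S ≤ B)
    (h2 : B ≤ A) (hg : g ∈ A) (hn : g ∈ nm B) (h3 : g ^ 2 ∈ B) : g ∈ B := by
  by_contra hB
  have h4 := (hS.mono (h1.trans le_sup_left) (sup_le h2 (zpowers_le_of_mem hg))).not_dvd_relIndex
  have h5 := H91.card_mul_relIndex (le_sup_left : B ≤ B ⊔ zpowers g)
  rw [card_sup_zpowers hn h3 hB, mul_comm] at h5
  rw [← relIndex_mul_relIndex S B _ h1 le_sup_left, Nat.eq_of_mul_eq_mul_right Nat.card_pos h5] at h4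
  exact h4 (Dvd.intro_left _ rfl)

theorem exists_inv [Finite G] {P : Subgroup G} (hP : IsPGroup 2 P) {Y : Subgroup G} (h1 : Y ≤ P)
    (h2 : P ≤ nm Y) (h : Y ≠ ⊥) : ∃ z ∈ Y, z ≠ 1 ∧ z * z = 1 ∧ z ∈ ce P := by
  obtain ⟨z, a, b, c⟩ := exists_Zo hP h1 h2 h
  exact ⟨z, a, b, by rw [← pow_two]; exact (mem_Zo.1 c).2, (mem_Zo.1 c).1.2⟩

theorem pg_zpowers {z : G} (h : z * z = 1) : IsPGroup 2 (zpowers z) := by
  rintro ⟨_, k, rfl⟩
  exact ⟨1, Subtype.ext (by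
    change (z ^ k) ^ 2 ^ 1 = 1
    rw [← zpow_natCast, ← zpow_mul, mul_comm, zpow_mul, zpow_natCast, pow_one, pow_two, h,
      one_zpow])⟩

/-- The family of conjugates of the normal subgroup. -/
structure Fam (n : ℕ) (N : Ω → Subgroup G) : Prop where
  t2 : T2 G Ω
  ev : Even (Nat.card Ω)
  eqv : ∀ (g : G) c, cj g (N c) = N (g • c)
  fix : ∀ c, N c ≤ stabilizer G c
  pl : ∀ c, ∃ 𝒱 𝒲, Pl n (N c) 𝒱 𝒲

namespace Fam

variable {n : ℕ} {N : Ω → Subgroup G} {a b c d e f : Ω} {g x y z : G} {S P : Subgroup G}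
  {𝒱 𝒲 : Set (Subgroup G)} (h : Fam n N)
include h

theorem nm_N (hg : g • c = c) : g ∈ nm (N c) := by rw [mem_nm_iff, h.eqv, hg]

theorem conj_N (g : G) (hx : x ∈ N c) : g * x * g⁻¹ ∈ N (g • c) := h.eqv g c ▸ conj_mem_cj g hx

theorem cj_Z (g : G) (c : Ω) : cj g (ce (N c)) = ce (N (g • c)) := by rw [cj_ce, h.eqv]

theorem conj_Z (g : G) (hx : x ∈ ce (N c)) : g * x * g⁻¹ ∈ ce (N (g • c)) :=
  h.cj_Z g c ▸ conj_mem_cj g hx

theorem N_comm (hx : x ∈ N c) (hg : g * x = x * g) : x ∈ N (g • c) := by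
  have := h.conj_N g hx
  rwa [hg, mul_inv_cancel_right] at this

theorem Z_comm (hx : x ∈ ce (N c)) (hg : g * x = x * g) : x ∈ ce (N (g • c)) := by
  have := h.conj_Z g hx
  rwa [hg, mul_inv_cancel_right] at this

variable [Finite G]

theorem moves (hcd : c ≠ d) : ¬ N c ≤ stabilizer G d := fun hle => by
  obtain ⟨𝒱, 𝒲, p⟩ := h.pl c
  obtain ⟨V, hV, -⟩ := p.l.cover 1 (one_mem _) (one_mul _)
  refine p.ne_bot hV (eq_bot_iff.2 fun x hx => h.t2.faith x fun e => ?_)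
  by_cases he : c = e
  · exact he ▸ h.fix c (p.l.le V hV hx)
  obtain ⟨g, h1, rfl⟩ := h.t2.two hcd he
  have := cj_mono g hle
  rw [h.eqv, h1, cj_stab] at this
  exact this (p.l.le V hV hx)

theorem fix_of_nm (hg : g ∈ nm (N c)) : g • c = c := by
  by_contra hn
  exact h.moves (Ne.symm hn) (by rw [← cj_eq hg, h.eqv]; exact h.fix _)

theorem Z_fix (hg : g ∈ ce (N c)) : g • c = c := h.fix_of_nm (ce_le_nm le_rfl hg)

omit [Finite G] in
theorem exists_ne (a : Ω) : ∃ b, a ≠ b := by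
  by_contra! hn
  have : Nat.card Ω = 1 := Nat.card_eq_one_iff_exists.2 ⟨a, fun b => (hn b).symm⟩
  exact absurd (this ▸ h.ev) (by decide)

variable [Finite Ω]

theorem syl (hab : a ≠ b) (hS : SylIn 2 S (stabilizer G a ⊓ stabilizer G b)) :
    SylIn 2 S (stabilizer G a) := by
  refine sylIn_of_not_dvd_relIndex (hS.le.trans inf_le_left) hS.pgroup ?_
  rw [← relIndex_mul_relIndex S _ _ hS.le inf_le_left, Nat.prime_two.dvd_mul, inf_relIndex_left,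
    ← orb_card]
  refine fun h1 => h1.elim hS.not_dvd_relIndex fun h2 => ?_
  have e : {y | ∃ g ∈ stabilizer G a, g • b = y} = Set.univ \ {a} := by
    ext y
    simp only [Set.mem_ofPred_eq, Set.mem_sdiff, Set.mem_univ, Set.mem_singleton_iff, true_and]
    exact ⟨fun ⟨g, h1, h2⟩ e => hab (MulAction.injective g (h1.trans (h2.trans e).symm)),
      fun hy => h.t2.two hab (Ne.symm hy)⟩
  have h3 := Set.ncard_sdiff_singleton_add_one (Set.mem_univ a)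
  have h4 := h.ev.two_dvd
  rw [Set.ncard_univ, ← e] at h3
  omega

theorem flag (hab : a ≠ b) (hS : SylIn 2 S (stabilizer G a ⊓ stabilizer G b))
    (p : Pl n (N a) 𝒱 𝒲) : ∃ V ∈ 𝒱, ∃ W ∈ 𝒲, V ⊓ W ≠ ⊥ ∧ S ⊓ N a = V ⊔ W :=
  p.exists_flag ((h.syl hab hS).inf_normal' (h.fix a) fun _ hg => h.nm_N hg)

theorem flag' (hab : a ≠ b) (p : Pl n (N a) 𝒱 𝒲) :
    ∃ V ∈ 𝒱, ∃ W ∈ 𝒲, V ⊓ W ≠ ⊥ ∧ V ⊔ W ≤ stabilizer G b := by
  obtain ⟨S, hS⟩ := exists_sylIn 2 (stabilizer G a ⊓ stabilizer G b)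
  obtain ⟨V, hV, W, hW, i, e⟩ := h.flag hab hS p
  exact ⟨V, hV, W, hW, i, e ▸ inf_le_left.trans (hS.le.trans inf_le_right)⟩

/-- An involution of `N c` acting on `N c` like an element fixing `d` fixes `d`. -/
theorem fix_of_act (hz : z ∈ N c) (h2 : z * z = 1) (hx : x • c = c) (hd : x • d = d)
    (hy : z⁻¹ * x ∈ ce (N c)) : z • d = d := by
  by_cases hcd : c = d
  · exact hcd ▸ h.fix c hz
  obtain ⟨𝒱, 𝒲, p⟩ := h.pl c
  obtain ⟨V, hV, W, hW, i, e⟩ := h.flag' hcd p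
  refine (p.mem_of_nm (H := N c ⊓ stabilizer G d) hV hW i inf_le_left
    (le_inf (sup_le (p.l.le V hV) (p.r.le W hW)) e) hz h2 ?_).2
  have := mul_mem (nm_inf (h.nm_N hx) (nm_stab hd)) (inv_mem (ce_le_nm inf_le_left hy))
  rwa [mul_inv_rev, inv_inv, mul_inv_cancel_left] at this

theorem inv_inter (hab : a ≠ b) : ∃ y ∈ N a ⊓ N b, y ≠ 1 ∧ y * y = 1 := by
  by_contra hn
  obtain ⟨S, hS⟩ := exists_sylIn 2 (stabilizer G a ⊓ stabilizer G b)
  obtain ⟨𝒱, 𝒲, p⟩ := h.pl a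
  obtain ⟨𝒱', 𝒲', p'⟩ := h.pl b
  obtain ⟨V, hV, W, hW, i, e⟩ := h.flag hab hS p
  obtain ⟨V', hV', W', hW', i', e'⟩ := h.flag hab.symm (inf_comm (stabilizer G a) _ ▸ hS) p'
  have h1 : S ⊓ (N a ⊓ N b) = ⊥ := by_contra fun h1 => by
    obtain ⟨z, a, b, c, -⟩ := exists_inv (hS.pgroup.to_le inf_le_left) le_rfl le_normalizer h1
    exact hn ⟨z, a.2, b, c⟩
  have h2 : ∀ u ∈ V' ⊔ W', ∃ w ∈ W, w⁻¹ * u ∈ ce (N a) := fun u hu => by
    rw [← e'] at hu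
    refine p.cent_axis hW (h.nm_N (hS.le hu.1).1) (mem_ce.2 fun w hw => ?_)
    have hw' : w ∈ S ⊓ N a := e ▸ mem_sup_right hw
    refine commutatorElement_eq_one_iff_mul_comm.1 (mem_bot.1 (h1 ▸ ⟨?_, ?_, ?_⟩))
    · exact comm_mem_of_nm (le_normalizer hw'.1) hu.1
    · exact comm_symm (comm_mem_of_nm (h.nm_N (hS.le hu.1).1) hw'.2)
    · exact comm_mem_of_nm (h.nm_N (hS.le hw'.1).2) hu.2
  obtain ⟨v, hv, hv'⟩ := SetLike.not_le_iff_exists.1 (p'.not_le hV' hW')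
  obtain ⟨w, hw, hw'⟩ := SetLike.not_le_iff_exists.1 (p'.symm.not_le hW' hV')
  obtain ⟨w1, a1, b1⟩ := h2 v (mem_sup_left hv)
  obtain ⟨w2, a2, b2⟩ := h2 w (mem_sup_right hw)
  have hWn : ∀ x ∈ W, x ∈ nm (ce (N a)) := fun x hx => nm_ce (le_normalizer (p.r.le W hW hx))
  have h3 : ⁅v, w⁆ ∈ ce (N a) := by
    have e1 : ⁅w1, w⁆ = 1 := by
      rw [← mul_inv_cancel_left w2 w]
      exact commutatorElement_eq_one_iff_commute.2 (Commute.mul_right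
        (comm_of_sq (p.r.sq W hW) a1 a2) (mem_ce.1 b2 w1 (p.r.le W hW a1)))
    rw [← mul_inv_cancel_left w1 v, comm_mul_left, e1, mul_one]
    refine conj_mem (hWn _ a1) (comm_symm (comm_mem_of_nm ?_ b1))
    rw [← mul_inv_cancel_left w2 w]
    exact mul_mem (hWn _ a2) (le_normalizer b2)
  have h4 := p'.comm_mem hV' hW' i' hv hw
  obtain ⟨m, hm, hm'⟩ := SetLike.not_le_iff_exists.1 (h.moves hab)
  obtain ⟨g, g1, g2⟩ := h.t2.two (Ne.symm hm') hab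
  refine hn ⟨g * ⁅v, w⁆ * g⁻¹, ⟨g1 ▸ h.conj_N g (p'.l.le _ hV' h4.1),
    g2 ▸ h.conj_N g (h.N_comm (p'.l.le _ hV' h4.1) (mem_ce.1 h3 m hm))⟩, fun e => ?_, ?_⟩
  · rw [conj_eq_one_iff, commutatorElement_eq_one_iff_mul_comm] at e
    exact (p'.comm_ne hV' hW' i' hv hw e).elim hv' hw'
  · rw [conj_mul, p'.l.sq _ hV' _ h4.1, mul_one, mul_inv_cancel]

theorem ce_inf (hab : a ≠ b) (hx : x ∈ ce (N a)) (hx' : x ∈ ce (N b)) : x = 1 := by
  obtain ⟨y, ⟨ya, yb⟩, y1, -⟩ := h.inv_inter hab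
  set D : Ω → Ω → Subgroup G := fun c d => ce (N c) ⊓ ce (N d) with hD
  have hc : ∀ (g : G) c d, cj g (D c d) = D (g • c) (g • d) := fun g c d => by
    simp only [hD, cj_inf, h.cj_Z]
  have K : ∀ {c d e f : Ω}, c ≠ d → e ≠ f → D c d ≤ D e f → D c d = D e f := fun h1 h2 h3 => by
    obtain ⟨g, rfl, rfl⟩ := h.t2.two h1 h2
    exact H91.eq_of_le_of_card_le h3 (by rw [← hc, card_cj])
  have K' : ∀ {c e : Ω}, y ∈ N c → c ≠ e → y • e ≠ e → D c e = D e (y • e) := fun h1 h2 h3 =>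
    K h2 h3.symm fun x hx => ⟨hx.2, h.Z_comm hx.2 (mem_ce.1 hx.1 y h1)⟩
  have s1 : ∀ e, ¬ D a b ≤ ce (N e) → y • e = e := fun e he => by_contra fun hn => by
    have h1 := K' ya (fun e' => he (e' ▸ inf_le_left)) hn
    have h2 := K' yb (fun e' => he (e' ▸ inf_le_right)) hn
    rw [← K (Ne.symm hn) hab (le_inf (h1 ▸ inf_le_left) (h2 ▸ inf_le_left))] at he
    exact he inf_le_left
  by_contra x1
  obtain ⟨e, he⟩ : ∃ e, ¬ D a b ≤ ce (N e) := by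
    by_contra! hn
    exact x1 (h.t2.faith x fun e => h.Z_fix (hn e ⟨hx, hx'⟩))
  refine y1 (h.t2.faith y fun f => by_contra fun hn => ?_)
  have hf : D a b ≤ ce (N f) := by_contra fun hf => hn (s1 f hf)
  have fa : f ≠ a := fun e => hn (e ▸ h.fix a ya)
  have fb : f ≠ b := fun e => hn (e ▸ h.fix b yb)
  have fe : f ≠ e := fun e => he (e ▸ hf)
  have h1 : D a b = D f (y • f) := K hab (Ne.symm hn) fun x hx =>
    ⟨hf hx, h.Z_comm (hf hx) (mem_ce.1 hx.1 y ya)⟩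
  obtain ⟨g, g1, g2⟩ := h.t2.two fa fe
  have h2 : D f e ≤ ce (N (g • b)) := by
    rw [← g1, ← g2, ← hc, ← h.cj_Z, ← K hab fa (le_inf hf inf_le_left)]
    exact cj_mono g inf_le_right
  have n1 : f ≠ g • b := fun e => fb (MulAction.injective g (g1.trans e))
  have n2 : e ≠ g • b := fun e => hab (MulAction.injective g (g2.trans e))
  have h3 : y • g • b = g • b := s1 _ fun h3 => he (by
    rw [K hab n1 (le_inf hf h3), ← K fe n1 (le_inf inf_le_left h2)]; exact inf_le_right)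
  have h4 : D f e = D e (g • b) := K fe n2 (le_inf inf_le_right h2)
  have h5 : D f e = D (y • f) e := by rw [← s1 e he, ← hc, h4, hc, s1 e he, h3, h4]
  refine he ?_
  rw [h1, ← K fe (Ne.symm hn) (le_inf inf_le_left (h5 ▸ inf_le_left))]
  exact inf_le_right

theorem ce_odd (hx : x ∈ ce (N a)) (h2 : x * x = 1) : x = 1 := by
  by_contra x1
  obtain ⟨b, hab⟩ := h.exists_ne a
  obtain ⟨S, hS⟩ := exists_sylIn 2 (stabilizer G a ⊓ stabilizer G b)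
  obtain ⟨𝒱, 𝒲, p⟩ := h.pl a
  obtain ⟨𝒱', 𝒲', p'⟩ := h.pl b
  obtain ⟨V, hV, W, hW, -, e⟩ := h.flag hab hS p
  obtain ⟨V', hV', W', hW', -, e'⟩ := h.flag hab.symm (inf_comm (stabilizer G a) _ ▸ hS) p'
  have hWS : W ≤ S ⊓ N a := e ▸ le_sup_right
  have hWS' : W' ≤ S ⊓ N b := e' ▸ le_sup_right
  have hS' := (h.syl hab hS).inf_normal' (N := ce (N a)) (fun _ hg => h.Z_fix hg)
    fun _ hg => nm_ce (h.nm_N hg)
  obtain ⟨x, ⟨xS, xa⟩, x1, -, xc⟩ := exists_inv hS.pgroup (Y := S ⊓ ce (N a)) inf_le_left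
    (fun g hg => nm_inf (le_normalizer hg) (nm_ce (h.nm_N (hS.le hg).1))) fun e =>
      x1 (mem_bot.1 (e ▸ (hS'.max _ (zpowers_le_of_mem hx) (pg_zpowers h2)
        (e ▸ bot_le)).le (mem_zpowers x)))
  have xb : x • b = b := (hS.le xS).2
  obtain ⟨w, hw, hy⟩ := p'.cent_axis hW' (h.nm_N xb)
    (mem_ce.2 fun u hu => mem_ce.1 xc u (hWS' hu).1)
  have w1 : w ≠ 1 := fun e => x1 (h.ce_inf hab xa (by simpa [e] using hy))
  have w2 := p'.r.sq W' hW' w hw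
  have wa : w • a = a := (hS.le (hWS' hw).1).1
  obtain ⟨z, hz, hy'⟩ := p.cent_axis hW (h.nm_N wa) (mem_ce.2 fun u hu => by
    have h3 := h.nm_N (hS.le (hWS hu).1).2
    have h4 : w⁻¹ * (u * w * u⁻¹) = w⁻¹ * x * (u * (w⁻¹ * x) * u⁻¹)⁻¹ := by
      calc _ = w⁻¹ * (x * u) * x⁻¹ * u⁻¹ * (u * w * u⁻¹) := by
            rw [← mem_ce.1 xa u (hWS hu).2]; group
        _ = _ := by group
    have h5 := p'.inf_ce (mul_mem (inv_mem (hWS' hw).2) (conj_mem h3 (hWS' hw).2))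
      (h4 ▸ mul_mem hy (inv_mem (conj_mem (nm_ce h3) hy)))
    rwa [inv_mul_eq_one, eq_mul_inv_iff_mul_eq, eq_comm] at h5)
  have z1 : z = 1 := by
    rcases p.simple (N a ⊓ ⨅ m ∈ N a, stabilizer G (m • b)) inf_le_left (le_nm_of_conj
      fun g hg u hu => mem_inf.2 ⟨conj_mem (le_normalizer hg) hu.1,
        mem_iInf.2 fun m => mem_iInf.2 fun hm => by
        have : u • (g⁻¹ * m) • b = (g⁻¹ * m) • b :=
          (mem_iInf.1 (mem_iInf.1 (mem_inf.1 hu).2 _) (mul_mem (inv_mem hg) hm))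
        rw [mem_stabilizer_iff, mul_smul, mul_smul, ← mul_smul g⁻¹, this, smul_smul,
          mul_inv_cancel_left]⟩) with e | e
    · refine mem_bot.1 (e ▸ ⟨(hWS hz).2, mem_iInf.2 fun m => mem_iInf.2 fun hm => ?_⟩)
      refine h.fix_of_act (hWS hz).2 (p.r.sq W hW z hz) wa
        (h.fix_of_act (hWS' hw).2 w2 xb ?_ hy) hy'
      rw [← mul_smul, ← mem_ce.1 xa m hm, mul_smul, xb]
    · refine (h.moves hab fun u hu => ?_).elim
      simpa using mem_iInf.1 (mem_iInf.1 (e.ge hu).2 1) (one_mem _)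
  rw [z1, inv_one, one_mul] at hy'
  obtain ⟨P, hP⟩ := exists_sylIn 2 (nm (N a ⊓ N b))
  obtain ⟨y, hy0, y1, y2⟩ := h.inv_inter hab
  obtain ⟨z0, z0P, z1, z2, zc⟩ := exists_inv hP.pgroup (Y := P ⊓ (N a ⊓ N b)) inf_le_left
    (fun g hg => nm_inf (le_normalizer hg) (hP.le hg)) fun e =>
      y1 (mem_bot.1 (e ▸ ((hP.inf_normal' le_normalizer le_rfl).max _ (zpowers_le_of_mem hy0)
        (pg_zpowers y2) (e ▸ bot_le)).le (mem_zpowers y)))
  obtain ⟨m, -, rfl⟩ := p'.isConj w (hWS' hw).2 z0 z0P.2.2 w2 z2 w1 z1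
  have h3 : cj m⁻¹ P ≤ stabilizer G a := by
    rw [← inv_smul_smul m a, ← cj_stab]
    refine cj_mono _ fun s hs => by_contra fun hn => z1 (h.ce_inf hn ?_ (h.conj_Z m hy'))
    exact h.Z_comm (h.conj_Z m hy') (mem_ce.1 zc s hs)
  have hH : stabilizer G a ⊓ stabilizer G b ≤ nm (N a ⊓ N b) := fun g hg =>
    nm_inf (h.nm_N hg.1) (h.nm_N hg.2)
  have h4 := hP.of_card_le (hS.le.trans hH) hS.pgroup
    (card_cj m⁻¹ P ▸ (h.syl hab hS).card_le h3 (hP.pgroup.map _))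
  obtain ⟨g, g1, g2⟩ := h.t2.two hab hab.symm
  refine hab (((mem_of_syl h4 hS.le hH (g := g) ?_ ?_ (mem_inf.2 ⟨?_, ?_⟩)).1).symm.trans g1)
  · rw [mem_nm_iff, cj_inf, h.eqv, h.eqv, g1, g2, inf_comm]
  · rw [mem_nm_iff, cj_inf, cj_stab, cj_stab, g1, g2, inf_comm]
  · rw [mem_stabilizer_iff, pow_two, mul_smul, g1, g2]
  · rw [mem_stabilizer_iff, pow_two, mul_smul, g2, g1]

theorem eq_one (hP : IsPGroup 2 P) (hx : x ∈ P) (hc : x ∈ ce (N a)) : x = 1 := by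
  by_contra x1
  obtain ⟨z, hz, z1, z2, -⟩ := exists_inv (hP.to_le inf_le_left) (Y := P ⊓ ce (N a)) le_rfl
    le_normalizer (inc_of_mem hx hc x1)
  exact z1 (h.ce_odd hz.2 z2)

end Fam

end Cfsg.Agent.H32.P3
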