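import Cfsg.Agent.H32.P3Bor

/-! The geometry of lines and planes. -/

set_option autoImplicit false

namespace Cfsg.Agent.H32.P3

open Subgroup MulAction Cfsg.Agent.SR3 Cfsg.Agent.H92 Cfsg.Agent.H12
open scoped commutatorElement

variable {G Ω : Type*} [Group G] [MulAction G Ω]

/-- Equivariant classes of centre and axis groups. -/
structure Geo (n : ℕ) (N : Ω → Subgroup G) (𝒱 𝒲 : Ω → Set (Subgroup G)) : Prop
    extends Fam n N where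
  p : ∀ c, Pl n (N c) (𝒱 c) (𝒲 c)
  cv : ∀ (g : G) c, ∀ V ∈ 𝒱 c, cj g V ∈ 𝒱 (g • c)
  cw : ∀ (g : G) c, ∀ W ∈ 𝒲 c, cj g W ∈ 𝒲 (g • c)
  par : ∀ c d, c ≠ d → ∃ V ∈ 𝒱 c, V ≤ N d ∧ N c ⊓ stabilizer G d ≤ nm V ∧
    ∀ W ∈ 𝒲 c, V ⊓ W ≠ ⊥ → W ≤ N d

variable [Finite G] [Finite Ω] {n : ℕ} {N : Ω → Subgroup G} {a b c d e : Ω} {g t v w x y z : G}
  {V V' W W' X : Subgroup G}

theorem Fam.geo_of {𝒱 𝒲 : Set (Subgroup G)} (h : Fam n N) (hab : a ≠ b) (p : Pl n (N a) 𝒱 𝒲)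
    (hV : V ∈ 𝒱) (h0 : V ≤ stabilizer G b) (h1 : N a ⊓ stabilizer G b ≤ nm V)
    (h2 : ∀ W ∈ 𝒲, W ⊓ V ≠ ⊥ → W ≤ N a ⊓ stabilizer G b) : ∃ 𝒱 𝒲, Geo n N 𝒱 𝒲 := by
  let P : Subgroup G :=
    { carrier := {g | g • a = a ∧ cj g V ∈ 𝒱}
      one_mem' := ⟨one_smul _ _, by rwa [cj_one]⟩
      mul_mem' := fun {x y} hx hy => ⟨by rw [mul_smul, hy.1, hx.1],
        cj_cj x y V ▸ (p.pres (h.nm_N hx.1) hV hx.2).1 _ hy.2⟩
      inv_mem' := fun {x} hx => ⟨inv_smul_eq_iff.2 hx.1.symm,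
        (p.cj_mem (inv_mem (h.nm_N hx.1)) hV).resolve_right fun h3 =>
          p.l.nmem V hV (cj_inv' x V ▸ (p.pres (h.nm_N hx.1) hV hx.2).2 _ h3)⟩ }
  have s1 : stabilizer G a ⊓ stabilizer G b ≤ P := fun g hg => ⟨hg.1, by_contra fun h3 => by
    have k : ∀ W ∈ 𝒲, V ⊓ W ≠ ⊥ → cj g W = V := fun W hW i =>
      p.eq_of_le_nm hV ((p.swap (h.nm_N hg.1) hV h3).2 W hW) (((cj_mono g (h2 W hW (inc_symm i))).trans
        (cj_eq (nm_inf (h.nm_N hg.1) (nm_stab hg.2))).le).trans h1)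
    obtain ⟨W, hW, i, -⟩ := p.l.join V hV V hV
    obtain ⟨W', hW', i', ne⟩ := p.other hV hW
    exact ne (by rw [← cj_inv g W', k W' hW' i', ← k W hW i, cj_inv])⟩
  have s2 : ∀ g : G, g • a = a → (∀ V ∈ 𝒱, cj g V ∈ 𝒱) ∧ ∀ W ∈ 𝒲, cj g W ∈ 𝒲 := fun g hg => by
    obtain ⟨S, hS⟩ := exists_sylIn 2 (stabilizer G a ⊓ stabilizer G b)
    refine p.pres (h.nm_N hg) hV (by_contra fun h3 => h3 ?_)
    have k := p.swap (h.nm_N hg) hV h3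
    have hg' : g⁻¹ • a = a := inv_smul_eq_iff.2 hg.symm
    refine (mem_of_syl (B := P) (h.syl hab hS) (hS.le.trans s1) (fun x hx => hx.1) hg
      (mem_nm_of_conj fun x hx => ⟨by rw [mul_smul, mul_smul, hg', hx.1, hg], ?_⟩)
      ⟨by rw [pow_two, mul_smul, hg, hg], by rw [pow_two, ← cj_cj]; exact k.2 _ (k.1 V hV)⟩).2
    rw [← cj_cj, ← cj_cj]
    exact k.2 _ ((p.pres (h.nm_N hx.1) hV hx.2).2 _ ((p.cj_mem (h.nm_N hg') hV).resolve_left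
      fun h4 => h3 (P.inv_mem_iff.1 ⟨hg', h4⟩).2))
  let F : Set (Subgroup G) → Ω → Set (Subgroup G) := fun 𝒳 c => {X | ∃ g : G, g • a = c ∧ X ∈ cj g '' 𝒳}
  have s3 : ∀ {𝒳}, (∀ g : G, g • a = a → ∀ X ∈ 𝒳, cj g X ∈ 𝒳) → ∀ g : G, F 𝒳 (g • a) = cj g '' 𝒳 :=
    fun k g => Set.ext fun X => ⟨by
      rintro ⟨g', e, Y, hY, rfl⟩
      exact ⟨_, k (g⁻¹ * g') (by rw [mul_smul, e, inv_smul_smul]) Y hY, by
        rw [cj_cj, mul_inv_cancel_left]⟩, fun hX => ⟨g, rfl, hX⟩⟩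
  have s4 : ∀ 𝒳 (g : G) c, ∀ X ∈ F 𝒳 c, cj g X ∈ F 𝒳 (g • c) := by
    rintro 𝒳 g _ _ ⟨k, rfl, Y, hY, rfl⟩
    exact ⟨g * k, mul_smul _ _ _, Y, hY, (cj_cj g k Y).symm⟩
  refine ⟨F 𝒱, F 𝒲, h, fun c => ?_, s4 _, s4 _, fun c d hcd => ?_⟩
  · obtain ⟨g, rfl⟩ := h.t2.trans a c
    rw [s3 fun g hg => (s2 g hg).1, s3 fun g hg => (s2 g hg).2, ← h.eqv]
    exact p.conj g
  · obtain ⟨g, rfl, rfl⟩ := h.t2.two hab hcd
    rw [s3 fun g hg => (s2 g hg).1, s3 fun g hg => (s2 g hg).2, ← h.eqv, ← h.eqv, ← cj_stab,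
      ← cj_inf]
    refine ⟨_, ⟨V, hV, rfl⟩, cj_mono g (h.le_of_fix (p.el hV) (p.l.le V hV) h0),
      cj_nm g V ▸ cj_mono g h1, ?_⟩
    rintro _ ⟨W, hW, rfl⟩ i
    refine cj_mono g (h.le_of_fix (p.symm.el hW) (p.r.le W hW) ((h2 W hW fun e => i ?_).trans
      inf_le_right))
    rw [← cj_inf, inf_comm, e]; exact Subgroup.map_bot _

theorem Fam.geo (h : Fam n N) (a : Ω) : ∃ 𝒱 𝒲, Geo n N 𝒱 𝒲 := by
  obtain ⟨b, hab⟩ := h.exists_ne a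
  obtain ⟨𝒱, 𝒲, p⟩ := h.pl a
  obtain ⟨V, hV, W, hW, i, e⟩ := h.flag' hab p
  have h1 : ¬ N a ≤ N a ⊓ stabilizer G b := fun h1 => h.moves hab (h1.trans inf_le_right)
  have h2 := le_inf (sup_le (p.l.le V hV) (p.r.le W hW)) e
  by_cases h3 : N a ⊓ stabilizer G b ≤ nm V
  · by_cases h4 : N a ⊓ stabilizer G b ≤ nm W
    · exact (h.bor_false (h.bor hab p hV hW i e h3 h4) a).elim
    · exact h.geo_of hab p hV (le_sup_left.trans e) h3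
        (p.symm.over1 hW hV (inc_symm i) inf_le_left h1 (sup_comm V W ▸ h2) h4).2
  · have := p.over1 hV hW i inf_le_left h1 h2 h3
    exact h.geo_of hab p.symm hW (le_sup_right.trans e) this.1 this.2

omit [Finite G] [Finite Ω] [MulAction G Ω] in
/-- The points whose group contains `X`. -/
def Fx (N : Ω → Subgroup G) (X : Subgroup G) : Set Ω := {c | X ≤ N c}

namespace Geo

variable {𝒱 𝒲 : Ω → Set (Subgroup G)} (h : Geo n N 𝒱 𝒲)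
include h

omit [Finite Ω]

omit [Finite G] in
theorem le_cj (g : G) (hX : X ≤ N c) : cj g X ≤ N (g • c) := h.eqv g c ▸ cj_mono g hX

omit [Finite G] in
theorem le_nm_smul (hg : g ∈ nm X) (hX : X ≤ N c) : X ≤ N (g • c) := cj_eq hg ▸ h.le_cj g hX

omit [Finite G] in
theorem card_Fx (g : G) (X : Subgroup G) : (Fx N (cj g X)).ncard = (Fx N X).ncard := by
  rw [← Set.ncard_image_of_injective (Fx N X) (MulAction.injective g)]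
  congr 1; ext c
  refine ⟨fun hc => ⟨g⁻¹ • c, ?_, smul_inv_smul g c⟩, by rintro ⟨d, hd, rfl⟩; exact h.le_cj g hd⟩
  exact cj_inv g X ▸ h.le_cj g⁻¹ hc

theorem par' (hcd : c ≠ d) (hV : V ∈ 𝒱 c) (h1 : V ≤ N d) : N c ⊓ stabilizer G d ≤ nm V ∧
    (∀ W ∈ 𝒲 c, V ⊓ W ≠ ⊥ → W ≤ N d) ∧ ∀ V' ∈ 𝒱 c, V' ≤ N d → V' = V := by
  obtain ⟨V₀, a1, -, a2, a3⟩ := h.par c d hcd
  have k : ∀ V' ∈ 𝒱 c, V' ≤ N d → V' = V₀ := fun V' b1 b2 => (h.p c).eq_of_le_nm a1 b1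
    ((le_inf ((h.p c).l.le _ b1) (b2.trans (h.fix d))).trans a2)
  rw [k V hV h1]
  exact ⟨a2, a3, k⟩

theorem v_eq (hcd : c ≠ d) (hV : V ∈ 𝒱 c) (hV' : V' ∈ 𝒱 c) (h1 : V ≤ N d) (h2 : V' ≤ N d) :
    V = V' := (h.par' hcd hV' h2).2.2 V hV h1

theorem w_le (hV : V ∈ 𝒱 c) (hW : W ∈ 𝒲 c) (i : V ⊓ W ≠ ⊥) (h1 : V ≤ N d) : W ≤ N d := by
  by_cases hcd : c = d
  exacts [hcd ▸ (h.p c).r.le W hW, (h.par' hcd hV h1).2.1 W hW i]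

theorem inc_of_fix (hcd : c ≠ d) (hV : V ∈ 𝒱 c) (hW : W ∈ 𝒲 c) (h1 : V ≤ N d) (hz : z ∈ W)
    (z1 : z ≠ 1) (h2 : z • d = d) : V ⊓ W ≠ ⊥ :=
  ((h.p c).l.norm V hV W hW z hz z1).1 ((h.par' hcd hV h1).1 ⟨(h.p c).r.le W hW hz, h2⟩)

theorem w_of_fix (hW : W ∈ 𝒲 c) (hz : z ∈ W) (z1 : z ≠ 1) (h2 : z • d = d) : W ≤ N d := by
  by_cases hcd : c = d
  · exact hcd ▸ (h.p c).r.le W hW
  obtain ⟨V, hV, h1, -⟩ := h.par c d hcd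
  exact h.w_le hV hW (h.inc_of_fix hcd hV hW h1 hz z1 h2) h1

theorem inc_of_le (hcd : c ≠ d) (hV : V ∈ 𝒱 c) (hW : W ∈ 𝒲 c) (h1 : V ≤ N d) (h2 : W ≤ N d) :
    V ⊓ W ≠ ⊥ := by
  obtain ⟨z, hz, -, z1⟩ := exists_of_inc (X := W) (Y := W) (by
    rw [inf_idem]; exact (h.p c).symm.ne_bot hW)
  exact h.inc_of_fix hcd hV hW h1 hz z1 (h.fix d (h2 hz))

theorem mem_v (hV : V ∈ 𝒱 c) (h1 : V ≤ N d) : V ∈ 𝒱 d := by
  by_cases hcd : c = d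
  · exact hcd ▸ hV
  have e := (h.p c).el hV
  refine ((h.p d).el_mem h1 e.1 e.2).resolve_right fun h2 => ?_
  obtain ⟨V', a1, a2, -⟩ := h.par d c (Ne.symm hcd)
  have e' := (h.p d).el a1
  rcases (h.p c).el_mem a2 e'.1 e'.2 with h3 | h3
  · exact (h.p d).l.nmem V' a1 (h.v_eq hcd hV h3 h1 ((h.p d).l.le _ a1) ▸ h2)
  obtain ⟨W, hW, i, ne⟩ := (h.p c).other hV h3
  have e'' := (h.p c).symm.el hW
  rcases (h.p d).el_mem (h.w_le hV hW i h1) e''.1 e''.2 with h4 | h4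
  · exact ne (h.v_eq (Ne.symm hcd) h4 a1 ((h.p c).r.le W hW) a2)
  · exact (h.p c).ne hV hW ((h.p d).r.disj V h2 W h4 i)

theorem mem_w (hW : W ∈ 𝒲 c) (h1 : W ≤ N d) : W ∈ 𝒲 d :=
  ((h.p d).el_mem h1 ((h.p c).r.sq W hW) ((h.p c).r.card W hW)).resolve_left fun h2 =>
    (h.p c).l.nmem W (h.mem_v h2 ((h.p c).r.le W hW)) hW

/-- An element of a line group fixing a point of a plane off the line lies in the plane group. -/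
theorem mem_of_fix (hV : V ∈ 𝒱 c) (hW : W ∈ 𝒲 c) (i : V ⊓ W ≠ ⊥) (h1 : W ≤ N d) (h2 : ¬ V ≤ N d)
    (hv : v ∈ V) (h3 : v • d = d) : v ∈ W := by
  by_cases v1 : v = 1
  · exact v1 ▸ one_mem _
  have hcd : c ≠ d := fun e => h2 (e ▸ (h.p c).l.le V hV)
  obtain ⟨V', a1, a2, -⟩ := h.par c d hcd
  obtain ⟨W', hW', hv'⟩ := (h.p c).r.cover v ((h.p c).l.le V hV hv) ((h.p c).l.sq V hV v hv)
  exact ((h.p c).l.uniq V hV V' a1 W hW W' hW' i (h.inc_of_le hcd a1 hW a2 h1)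
    (inc_of_mem hv hv' v1) (h.inc_of_fix hcd a1 hW' a2 hv' v1 h3)).elim
    (fun e => (h2 (e ▸ a2)).elim) (· ▸ hv')

theorem two_plane (hW : W ∈ 𝒲 a) {c' d' : Ω} (h1 : W ≤ N c) (h2 : W ≤ N d) (h3 : W ≤ N c')
    (h4 : W ≤ N d') (n1 : c ≠ d) (n2 : c' ≠ d') : ∃ g ∈ nm W, g • c = c' ∧ g • d = d' := by
  obtain ⟨g, rfl, rfl⟩ := h.t2.two n1 n2
  obtain ⟨V, hV, a1, -⟩ := h.par _ _ n2
  have m1 := h.mem_w hW h3
  have m2 := h.cw g c W (h.mem_w hW h1)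
  have p := h.p (g • c)
  have k := Set.ncard_insert_le (cj g W) {W}
  obtain ⟨W₀, b1, b2⟩ : ∃ W₀ ∈ {W ∈ 𝒲 (g • c) | V ⊓ W ≠ ⊥}, W₀ ∉ ({cj g W, W} : Set _) := by
    by_contra! hn
    have := (Set.ncard_le_ncard hn).trans k
    have h5 := p.two_le
    rw [Set.ncard_singleton, p.card_lines hV] at this
    omega
  simp only [Set.mem_insert_iff, Set.mem_singleton_iff, not_or] at b2
  obtain ⟨w, hw, e⟩ := p.symm.trans_line b1.1 hV (inc_symm b1.2) m2 m1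
    (inc_symm (h.inc_of_le n2 hV m2 a1 (h.le_cj g h2))) (inc_symm (h.inc_of_le n2 hV m1 a1 h4))
    (Ne.symm b2.1) (Ne.symm b2.2)
  exact ⟨w * g, mem_nm_iff.2 (by rw [← cj_cj, e]),
    by rw [mul_smul]; exact h.fix _ (p.r.le _ b1.1 hw),
    by rw [mul_smul]; exact h.fix _ (h.w_le hV b1.1 b1.2 a1 hw)⟩

variable [Finite Ω]

theorem Z_semi (hab : a ≠ b) (hy : y ∈ ce (N a)) (hb : y • b = b) : y = 1 := by
  obtain ⟨V, hV, h1, -⟩ := h.par a b hab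
  have p := h.p a
  obtain ⟨v, hv, h2⟩ := (h.p b).symm.cent_axis (h.mem_v hV h1) (h.nm_N hb)
    (centralizer_le (p.l.le V hV) hy)
  by_cases v1 : v = 1
  · exact h.ce_inf hab hy (by simpa [v1] using h2)
  obtain ⟨W, hW, hv'⟩ := p.r.cover v (p.l.le V hV hv) (p.l.sq V hV v hv)
  obtain ⟨W', hW', i, ne⟩ := p.other hV hW
  obtain ⟨w, hw, hw'⟩ := SetLike.not_le_iff_exists.1 (p.symm.not_le hW' hV)
  have h3 : Commute w v := by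
    have := Commute.mul_right (mem_ce.1 hy w (p.r.le W' hW' hw))
      (Commute.inv_right (mem_ce.1 h2 w (h.w_le hV hW' i h1 hw)))
    rwa [mul_inv_rev, inv_inv, mul_inv_cancel_left] at this
  exact (ne (p.symm.eq_of_mem hW' hW ((p.comm_ne hV hW' i hv hw h3.symm).resolve_right hw')
    hv' v1)).elim

omit [Finite G] in
theorem exists_m (a : Ω) : ∃ m, 2 ≤ m ∧ ∀ c, ∀ V ∈ 𝒱 c, (Fx N V).ncard = m := by
  obtain ⟨b, hab⟩ := h.exists_ne a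
  obtain ⟨V, hV, h1, -⟩ := h.par a b hab
  refine ⟨(Fx N V).ncard, (Set.one_lt_ncard (Set.toFinite _)).2
    ⟨a, (h.p a).l.le V hV, b, h1, hab⟩, fun c V' hV' => ?_⟩
  obtain ⟨g, rfl⟩ := h.t2.trans a c
  obtain ⟨k, -, rfl⟩ := (h.p _).l.trans _ (h.cv g a V hV) V' hV'
  rw [h.card_Fx, h.card_Fx]

variable {m : ℕ} (hm : ∀ c, ∀ V ∈ 𝒱 c, (Fx N V).ncard = m)
include hm

theorem card_aux {S : Set Ω} {I : Set (Subgroup G)} (hc : c ∈ S) (hI : I ⊆ 𝒱 c)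
    (h1 : ∀ V ∈ I, Fx N V ⊆ S) (h2 : ∀ d ∈ S, c ≠ d → ∀ V ∈ 𝒱 c, V ≤ N d → V ∈ I) :
    S.ncard = I.ncard * (m - 1) + 1 := by
  rw [← Set.ncard_sdiff_singleton_add_one hc, part (S := S \ {c}) (Set.toFinite _) (Set.toFinite I)
    (fun V => Fx N V \ {c}) (m - 1) (fun V hV d hd => ⟨h1 V hV hd.1, hd.2⟩) (fun V hV => by
      rw [← hm c V (hI hV), ← Set.ncard_sdiff_singleton_add_one (s := Fx N V)
        ((h.p c).l.le V (hI hV))]; rfl) (fun d hd => by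
      obtain ⟨V, hV, h3, -⟩ := h.par c d (Ne.symm hd.2)
      exact ⟨V, h2 d hd.1 (Ne.symm hd.2) V hV h3, h3, hd.2⟩)
    fun V hV V' hV' d a b => h.v_eq (Ne.symm a.2) (hI hV) (hI hV') a.1 b.1]

theorem card_plane (hW : W ∈ 𝒲 c) : (Fx N W).ncard = (2 ^ n + 1) * (m - 1) + 1 := by
  rw [← (h.p c).symm.card_lines hW]
  exact h.card_aux hm ((h.p c).r.le W hW) (fun V hV => hV.1)
    (fun V hV d hd => h.w_le hV.1 hW (inc_symm hV.2) hd)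
    fun d hd ne V hV h1 => ⟨hV, inc_symm (h.inc_of_le ne hV hW h1 hd)⟩

theorem card_all (c : Ω) : Nat.card Ω = (2 ^ n * 2 ^ n + 2 ^ n + 1) * (m - 1) + 1 := by
  rw [← (h.p c).card_pts, ← Set.ncard_univ]
  exact h.card_aux hm trivial le_rfl (fun _ _ _ _ => trivial) fun _ _ _ _ hV _ => hV

theorem card_spread (hW : W ∈ 𝒲 c) (hz : z ∈ W) (z1 : z ≠ 1) : (Fx N W).ncard =
    {V | z ∈ V ∧ ∃ d, W ≤ N d ∧ V ∈ 𝒱 d}.ncard * m :=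
  part (Set.toFinite _) (Set.toFinite _) (Fx N) m
    (fun V ⟨a1, d, a2, a3⟩ _ he => h.w_le a3 (h.mem_w hW a2) (inc_of_mem a1 hz z1) he)
    (fun V ⟨_, d, _, a3⟩ => hm d V a3)
    (fun d hd => by
      obtain ⟨V, hV, h1⟩ := (h.p d).l.cover z (hd hz) ((h.p c).r.sq W hW z hz)
      exact ⟨V, ⟨h1, d, hd, hV⟩, (h.p d).l.le V hV⟩)
    fun V ⟨a1, _, _, a3⟩ V' ⟨b1, _, _, b3⟩ e he he' =>
      (h.p e).eq_of_mem (h.mem_v a3 he) (h.mem_v b3 he') a1 b1 z1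

theorem plane_dvd : (2 ^ n + 1) * (m - 1) + 1 ∣ Nat.card Ω * (2 ^ n * 2 ^ n + 2 ^ n + 1) := by
  have h1 := part (S := {x : Ω × Subgroup G | x.2 ∈ 𝒲 x.1}) (Set.toFinite _) Set.finite_univ
    (fun c => {c} ×ˢ 𝒲 c) (2 ^ n * 2 ^ n + 2 ^ n + 1)
    (by rintro c - ⟨_, W⟩ ⟨rfl, hW⟩; exact hW)
    (fun c _ => by rw [Set.ncard_prod, Set.ncard_singleton, one_mul, (h.p c).symm.card_pts])
    (fun x hx => ⟨x.1, trivial, rfl, hx⟩) fun c _ d _ x a b => a.1.symm.trans b.1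
  have h2 := part (S := {x : Ω × Subgroup G | x.2 ∈ 𝒲 x.1}) (Set.toFinite _)
    (Set.toFinite {W | ∃ c, W ∈ 𝒲 c}) (fun W => Fx N W ×ˢ {W}) ((2 ^ n + 1) * (m - 1) + 1)
    (by rintro W ⟨c, hW⟩ ⟨d, _⟩ ⟨hd, rfl⟩; exact h.mem_w hW hd)
    (fun W ⟨c, hW⟩ => by rw [Set.ncard_prod, Set.ncard_singleton, mul_one, h.card_plane hm hW])
    (fun x hx => ⟨x.2, ⟨x.1, hx⟩, (h.p _).r.le _ hx, rfl⟩) fun c _ d _ x a b => a.2.symm.trans b.2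
  rw [← Set.ncard_univ, ← h1, h2]
  exact Dvd.intro_left _ rfl

end Geo

end Cfsg.Agent.H32.P3
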