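import Cfsg.Agent.H32.P3Sq
import Cfsg.Agent.H32.P3Aff
import Cfsg.Agent.H32.P3Mod2
import Cfsg.Agent.H16.SSearch2
import Cfsg.Agent.S0414
import Cfsg.Agent.S1663

/-! The conclusion. -/

set_option autoImplicit false

namespace Cfsg.Agent.H32.P3

open Subgroup MulAction Cfsg.Agent.SR3 Cfsg.Agent.H92 Cfsg.Agent.H12

theorem m22_of {G A : Type*} [Group G] [Group A] [Finite A] (φ : G →* A) (hφ : Function.Injective φ)
    (hA : Nat.card A = 887040) (hG : 443520 ≤ Nat.card G) {H : Subgroup A} (h1 : H.index = 2)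
    (h2 : IsM22 H) : Spor.IsoM22 G ∨ ∃ H : Subgroup G, H.index = 2 ∧ Spor.IsoM22 H := by
  obtain ⟨e⟩ := S1663.result h2
  have h3 := φ.range.card_mul_index
  have h4 := Nat.card_congr (MonoidHom.ofInjective hφ).toEquiv
  rw [hA, ← h4] at h3
  have h5 : φ.range.index = 1 ∨ φ.range.index = 2 := by
    have : φ.range.index ≤ 2 := by nlinarith
    have : φ.range.index ≠ 0 := index_ne_zero_of_finite
    omega
  rcases h5 with h5 | h5
  · let f := MulEquiv.ofBijective φ ⟨hφ, MonoidHom.range_eq_top.1 (index_eq_one.1 h5)⟩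
    exact Or.inr ⟨H.map f.symm, by rw [index_map_equiv, h1], ⟨(f.symm.subgroupMap H).symm.trans e⟩⟩
  · have := normal_of_index_eq_two h5
    have := h2.1
    rcases (inferInstance : (φ.range.subgroupOf H).Normal).eq_bot_or_eq_top with h6 | h6
    · have h7 := relIndex_dvd_index_of_normal φ.range H
      rw [relIndex, h6, index_bot, h2.2, h5] at h7
      omega
    · have h7 := H91.eq_of_le_of_card_le (subgroupOf_eq_top.1 h6) (by rw [h2.2, ← h4]; nlinarith)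
      exact Or.inl ⟨(MonoidHom.ofInjective hφ).trans ((MulEquiv.subgroupCongr h7.symm).trans e)⟩

variable {G Ω : Type*} [Group G] [Finite G] [MulAction G Ω] {n : ℕ} {N : Ω → Subgroup G}
  {𝒱 𝒲 : Ω → Set (Subgroup G)}

theorem Geo.two [Fintype Ω] (h : Geo 2 N 𝒱 𝒲) (hm : ∀ c, ∀ V ∈ 𝒱 c, (Fx N V).ncard = 2) (a : Ω) :
    (∀ x y : Ω, x ≠ a → y ≠ a → ∃ g ∈ N a, g • x = y) ∧ Fintype.card Ω = 22 ∧
      (Spor.IsoM22 G ∨ ∃ H : Subgroup G, H.index = 2 ∧ Spor.IsoM22 H) := by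
  classical
  have k : ∀ {c d e V}, V ∈ 𝒱 c → V ≤ N d → V ≤ N e → c ≠ d → c ≠ e → d = e :=
    fun {c d e V} hV h1 h2 n1 n2 => by_contra fun n3 => by
      have := (Set.two_lt_ncard (s := Fx N V) (Set.toFinite _)).2
        ⟨c, (h.p c).l.le V hV, d, h1, e, h2, n1, n2, n3⟩
      rw [hm c V hV] at this
      omega
  have h22 : Nat.card Ω = 22 := h.card_all hm a
  have h22' := Nat.card_eq_fintype_card.symm.trans h22
  refine ⟨fun x y hx hy => ?_, h22', ?_⟩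
  · obtain ⟨X, hX, h1, -⟩ := h.par a x hx.symm
    obtain ⟨Y, hY, h2, -⟩ := h.par a y hy.symm
    obtain ⟨g, hg, e⟩ := (h.p a).l.trans X hX Y hY
    exact ⟨g, hg, k hY (e ▸ h.le_cj g h1) h2
      (fun e => hx (MulAction.injective g (e.symm.trans (h.fix a hg).symm))) hy.symm⟩
  let B : Set (Finset Ω) := {s | ∃ c, ∃ W ∈ 𝒲 c, ∀ x, x ∈ s ↔ W ≤ N x}
  have hB : IsSteinerSystem 3 6 B := by
    refine ⟨?_, fun s hs => ?_⟩
    · rintro s ⟨c, W, hW, e⟩
      rw [← Set.ncard_coe_finset, (Set.ext e : (s : Set Ω) = Fx N W), h.card_plane hm hW]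
      rfl
    obtain ⟨x, y, z, n1, n2, n3, rfl⟩ := Finset.card_eq_three.1 hs
    obtain ⟨Y, hY, h1, -⟩ := h.par x y n1
    obtain ⟨Z, hZ, h2, -⟩ := h.par x z n2
    obtain ⟨W, hW, i, j⟩ := (h.p x).l.join Y hY Z hZ
    refine ⟨Finset.univ.filter fun c => W ≤ N c, ⟨⟨x, W, hW, by simp⟩, ?_⟩, ?_⟩
    · simp only [Finset.insert_subset_iff, Finset.singleton_subset_iff, Finset.mem_filter,
        Finset.mem_univ, true_and]
      exact ⟨(h.p x).r.le W hW, h.w_le hY hW i h1, h.w_le hZ hW j h2⟩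
    · rintro s ⟨⟨c, W', hW', e⟩, h3⟩
      simp only [Finset.insert_subset_iff, Finset.singleton_subset_iff, e] at h3
      have m := h.mem_w hW' h3.1
      obtain rfl := ((h.p x).l.uniq Y hY Z hZ W hW W' m i j (h.inc_of_le n1 hY m h1 h3.2.1)
        (h.inc_of_le n2 hZ m h2 h3.2.2)).resolve_left fun e => n3 (k hY h1 (e ▸ h2) n1 n2)
      ext u; simp [e]
  obtain ⟨hA, -, H, h1, h2⟩ := S0414.result h22' hB
  refine m22_of ((toPermHom G Ω).codRestrict _ fun g => H16.mem_setSystemAut_of_forall ?_)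
    (fun x y e => ?_) hA ?_ h1 h2
  · rintro s ⟨c, W, hW, e⟩
    refine ⟨g • c, _, h.cw g c W hW, fun x => ?_⟩
    rw [Finset.mem_map_equiv, e]
    exact ⟨fun h3 => smul_inv_smul g x ▸ h.le_cj g h3, fun h3 => cj_inv g W ▸ h.le_cj g⁻¹ h3⟩
  · have := h.t2.faithful
    exact toPerm_injective (β := Ω) (congrArg Subtype.val e)
  · have h3 := (stabilizer G a).card_mul_index
    have h4 := (H91.card_le_of_le (h.fix a)).trans' ((h.p a).ord rfl)
    have h5 : orbit G a = Set.univ := Set.eq_univ_of_forall (h.t2.trans a)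
    rw [index_stabilizer, h5, Set.ncard_univ, h22] at h3
    omega

theorem main [Fintype Ω] (h : Fam n N) (a : Ω) :
    (∀ x y : Ω, x ≠ a → y ≠ a → ∃ g ∈ N a, g • x = y) ∧
    ((Odd n ∧ ∃ E : Subgroup G, E.Normal ∧ Nat.card E = (2 ^ n) ^ 3 ∧
      (∀ x y : Ω, ∃ r ∈ E, r • x = y) ∧ ∀ x : Ω, ∀ r ∈ E, r • x = x → r = 1) ∨
     (Fintype.card Ω = 22 ∧ n = 2 ∧
      (Spor.IsoM22 G ∨ ∃ H : Subgroup G, H.index = 2 ∧ Spor.IsoM22 H))) := by
  obtain ⟨𝒱, 𝒲, g⟩ := h.geo a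
  obtain ⟨m, m2, hm⟩ := g.exists_m a
  have p := g.p a
  obtain ⟨V, hV, -⟩ := p.l.cover 1 (one_mem _) (one_mul _)
  obtain ⟨W, hW, i, -⟩ := p.l.join V hV V hV
  obtain ⟨z, zV, zW, z1⟩ := exists_of_inc i
  rcases arith m2 (by rw [← g.card_plane hm hW, g.card_spread hm hW zW z1]; exact Dvd.intro_left _ rfl)
    (g.card_all hm a ▸ g.plane_dvd hm) with rfl | hq
  · obtain ⟨E, h1, h2, h3⟩ := g.regN hm a
    refine ⟨(g.aff_trans hm a).1, Or.inl ⟨(g.aff_trans hm a).2, E, h1, ?_, h2, h3⟩⟩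
    rw [card_reg h2 h3 a, g.card_all hm a]
    obtain ⟨k, hk⟩ : ∃ k, 2 ^ n = k + 1 := ⟨2 ^ n - 1, by omega⟩
    rw [hk, Nat.add_sub_cancel]; ring
  · obtain rfl := g.m_two hm m2 hq hV hW zV zW z1
    obtain rfl : n = 2 := Nat.pow_right_injective le_rfl hq
    obtain ⟨h1, h2, h3⟩ := g.two hm a
    exact ⟨h1, Or.inr ⟨h2, rfl, h3⟩⟩

omit [Finite G] in
theorem exists_fam (t : T2 G Ω) (ev : Even (Nat.card Ω)) {a : Ω} {M : Subgroup G}
    (h1 : M ≤ stabilizer G a) (h2 : stabilizer G a ≤ nm M) {𝒳 𝒴 : Set (Subgroup G)}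
    (p : Pl n M 𝒳 𝒴) : ∃ N : Ω → Subgroup G, Fam n N ∧ N a = M := by
  choose k hk using t.trans a
  refine ⟨fun c => cj (k c) M, ⟨t, ev, fun g c => ?_, fun c => ?_, fun c => ⟨_, _, p.conj _⟩⟩,
    cj_eq (h2 (hk a))⟩
  · rw [cj_cj, ← mul_inv_cancel_left (k (g • c)) (g * k c), ← cj_cj, cj_eq (h2 (by
      rw [mem_stabilizer_iff, mul_smul, mul_smul, hk, inv_smul_eq_iff, hk]))]
  · have := cj_mono (k c) h1
    rwa [cj_stab, hk] at this

end Cfsg.Agent.H32.P3
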