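import Cfsg.Agent.SR3.Basic
import Cfsg.Agent.H92.SylIn

/-! The centre groups and axis groups of `PSL₃(2ⁿ)`, axiomatically. -/

set_option autoImplicit false

namespace Cfsg.Agent.H32.P3

open Subgroup Cfsg.Agent.SR3
open scoped commutatorElement

universe u

variable {G : Type u} [Group G]

/-- The action of the Borel subgroup on `W / (V ⊓ W)`. -/
structure Tor (N V W : Subgroup G) : Prop where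
  t0 : ∀ g ∈ N ⊓ nm V ⊓ nm W, ∀ h ∈ N ⊓ nm V ⊓ nm W, ∀ w ∈ W, ⁅⁅g, h⁆, w⁆ ∈ V
  t1 : ∀ w ∈ W, w ∉ V → ∀ w' ∈ W, w' ∉ V →
    ∃ s ∈ N ⊓ nm V, ∃ t ∈ N ⊓ nm V, s * s = 1 ∧ t * t = 1 ∧ s * t ∈ nm W ∧
      (s * t) ^ 2 * w * ((s * t) ^ 2)⁻¹ * w'⁻¹ ∈ V

/-- One half of the axioms. -/
structure Pl0 (n : ℕ) (N : Subgroup G) (𝒱 𝒲 : Set (Subgroup G)) : Prop where
  le : ∀ V ∈ 𝒱, V ≤ N
  sq : ∀ V ∈ 𝒱, ∀ x ∈ V, x * x = 1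
  card : ∀ V ∈ 𝒱, Nat.card V = 2 ^ n * 2 ^ n
  conj : ∀ V ∈ 𝒱, ∀ g ∈ N, cj g V ∈ 𝒱
  trans : ∀ V ∈ 𝒱, ∀ V' ∈ 𝒱, ∃ g ∈ N, cj g V = V'
  cover : ∀ z ∈ N, z * z = 1 → ∃ V ∈ 𝒱, z ∈ V
  disj : ∀ V ∈ 𝒱, ∀ V' ∈ 𝒱, V ⊓ V' ≠ ⊥ → V = V'
  nmem : ∀ V ∈ 𝒱, V ∉ 𝒲
  inf : ∀ V ∈ 𝒱, ∀ W ∈ 𝒲, V ⊓ W ≠ ⊥ → Nat.card ↥(V ⊓ W) = 2 ^ n
  join : ∀ V ∈ 𝒱, ∀ V' ∈ 𝒱, ∃ W ∈ 𝒲, V ⊓ W ≠ ⊥ ∧ V' ⊓ W ≠ ⊥
  uniq : ∀ V ∈ 𝒱, ∀ V' ∈ 𝒱, ∀ W ∈ 𝒲, ∀ W' ∈ 𝒲, V ⊓ W ≠ ⊥ → V' ⊓ W ≠ ⊥ → V ⊓ W' ≠ ⊥ →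
    V' ⊓ W' ≠ ⊥ → V = V' ∨ W = W'
  norm : ∀ V ∈ 𝒱, ∀ W ∈ 𝒲, ∀ z ∈ W, z ≠ 1 → (z ∈ nm V ↔ V ⊓ W ≠ ⊥)
  reg : ∀ W ∈ 𝒲, ∀ V ∈ 𝒱, ∀ V' ∈ 𝒱, V ⊓ W = ⊥ → V' ⊓ W = ⊥ → ∃ w ∈ W, cj w V = V'
  faith : ∀ g ∈ N, (∀ V ∈ 𝒱, g ∈ nm V) → g = 1
  tor : ∀ V ∈ 𝒱, ∀ W ∈ 𝒲, V ⊓ W ≠ ⊥ → Tor N V W
  tor2 : ∃ V ∈ 𝒱, ∃ H ≤ N, ∃ s ∈ N, cj s V ≠ V ∧ Nat.card H + 1 = 2 ^ n ∧ H ≤ nm V ∧
    (∀ h ∈ H, s * h * s⁻¹ = h⁻¹) ∧ (∀ h ∈ H, h ≠ 1 → ∀ V' ∈ 𝒱, ∀ W ∈ 𝒲, V ⊓ W ≠ ⊥ →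
      cj s V ⊓ W ≠ ⊥ → V' ⊓ W ≠ ⊥ → h ∈ nm V' → V' = V ∨ V' = cj s V) ∧
    (Even n → ∃ a ∈ N ⊓ nm V, ∃ b ∈ N ⊓ nm V, a * a = 1 ∧ b * b = 1 ∧ a * b ∈ H ∧ a * b ≠ 1)

/-- The axioms. -/
structure Pl (n : ℕ) (N : Subgroup G) (𝒱 𝒲 : Set (Subgroup G)) : Prop where
  l : Pl0 n N 𝒱 𝒲
  r : Pl0 n N 𝒲 𝒱
  pos : 1 ≤ n
  syl : ∃ k, Odd k ∧ Nat.card N = (2 ^ n) ^ 3 * k
  simple : ∀ K ≤ N, N ≤ nm K → K = ⊥ ∨ K = N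
  isConj : ∀ z ∈ N, ∀ z' ∈ N, z * z = 1 → z' * z' = 1 → z ≠ 1 → z' ≠ 1 →
    ∃ g ∈ N, g * z * g⁻¹ = z'
  ord : n = 2 → 20160 ≤ Nat.card N

variable {n : ℕ} {N H T U V V' W W' X Y : Subgroup G} {𝒱 𝒲 : Set (Subgroup G)} {g t v w x y z : G}

theorem inc_of_mem (h : z ∈ X) (h' : z ∈ Y) (h1 : z ≠ 1) : X ⊓ Y ≠ ⊥ := fun e =>
  h1 (mem_bot.1 (e ▸ mem_inf.2 ⟨h, h'⟩))

theorem exists_of_inc (h : X ⊓ Y ≠ ⊥) : ∃ z, z ∈ X ∧ z ∈ Y ∧ z ≠ 1 := by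
  obtain ⟨⟨z, hz⟩, h1⟩ := ne_bot_iff_exists_ne_one.1 h
  exact ⟨z, hz.1, hz.2, fun e => h1 (Subtype.ext e)⟩

theorem inc_symm (h : X ⊓ Y ≠ ⊥) : Y ⊓ X ≠ ⊥ := by rwa [inf_comm]

theorem inc_cj (g : G) (h : X ⊓ Y ≠ ⊥) : cj g X ⊓ cj g Y ≠ ⊥ := by
  obtain ⟨z, h1, h2, h3⟩ := exists_of_inc h
  exact inc_of_mem (conj_mem_cj g h1) (conj_mem_cj g h2) (by simpa using h3)

theorem cj_inv (g : G) (X : Subgroup G) : cj g⁻¹ (cj g X) = X := by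
  rw [cj_cj, inv_mul_cancel, cj_one]

theorem cj_inv' (g : G) (X : Subgroup G) : cj g (cj g⁻¹ X) = X := by
  rw [cj_cj, mul_inv_cancel, cj_one]

theorem comm_of_sq (h : ∀ x ∈ X, x * x = 1) (hx : x ∈ X) (hy : y ∈ X) : x * y = y * x := by
  have h1 := h _ (mul_mem hx hy)
  calc x * y = (y * y) * (x * y) * (x * x) := by rw [h x hx, h y hy]; group
    _ = y * (y * x * (y * x)) * x := by group
    _ = y * x := by rw [h _ (mul_mem hy hx)]; group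

theorem pg_of_sq (h : ∀ x ∈ X, x * x = 1) : IsPGroup 2 X := fun x =>
  ⟨1, Subtype.ext (by simpa [pow_two] using h x x.2)⟩

theorem inv_of_sq (h : x * x = 1) : x⁻¹ = x := inv_eq_of_mul_eq_one_right h

/-- A group is not the union of two proper subgroups. -/
theorem le_or_le (h : ∀ x ∈ T, x ∈ X ∨ x ∈ Y) : T ≤ X ∨ T ≤ Y := by
  by_contra hn
  push Not at hn
  obtain ⟨a, ha, ha'⟩ := SetLike.not_le_iff_exists.1 hn.1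
  obtain ⟨b, hb, hb'⟩ := SetLike.not_le_iff_exists.1 hn.2
  rcases h _ (mul_mem ha hb) with h1 | h1
  · exact ha' ((mul_mem_cancel_right ((h b hb).resolve_right hb')).1 h1)
  · exact hb' ((mul_mem_cancel_left ((h a ha).resolve_left ha')).1 h1)

theorem le_of_compl (h : ¬ T ≤ Y) (h' : ∀ x ∈ T, x ∉ Y → x ∈ X) : T ≤ X :=
  (le_or_le fun x hx => (em (x ∈ Y)).symm.imp_left (h' x hx)).resolve_right h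

namespace Pl

theorem symm (h : Pl n N 𝒱 𝒲) : Pl n N 𝒲 𝒱 :=
  ⟨h.r, h.l, h.pos, h.syl, h.simple, h.isConj, h.ord⟩

variable (h : Pl n N 𝒱 𝒲)
include h

theorem two_le : 2 ≤ 2 ^ n := by
  calc 2 = 2 ^ 1 := rfl
    _ ≤ 2 ^ n := Nat.pow_le_pow_right (by norm_num) h.pos

theorem le_nm (hV : V ∈ 𝒱) (hW : W ∈ 𝒲) (hi : V ⊓ W ≠ ⊥) : W ≤ nm V := fun z hz => by
  by_cases h1 : z = 1
  · rw [h1]; exact one_mem _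
  · exact (h.l.norm V hV W hW z hz h1).2 hi

theorem eq_of_mem (hV : V ∈ 𝒱) (hV' : V' ∈ 𝒱) (h1 : z ∈ V) (h2 : z ∈ V') (h3 : z ≠ 1) : V = V' :=
  h.l.disj V hV V' hV' (inc_of_mem h1 h2 h3)

theorem comm_mem (hV : V ∈ 𝒱) (hW : W ∈ 𝒲) (hi : V ⊓ W ≠ ⊥) (hv : v ∈ V) (hw : w ∈ W) :
    ⁅v, w⁆ ∈ V ⊓ W :=
  ⟨comm_symm (comm_mem_of_nm (h.le_nm hV hW hi hw) hv),
    comm_mem_of_nm (h.symm.le_nm hW hV (inc_symm hi) hv) hw⟩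

/-- An element centralizing a non-trivial element of `V` and keeping `V` in its class. -/
theorem nm_of_comm (hV : V ∈ 𝒱) (hg : cj g V ∈ 𝒱) (hz : z ∈ V) (h1 : z ≠ 1)
    (hc : g * z = z * g) : g ∈ nm V :=
  mem_nm_iff.2 (h.eq_of_mem hg hV (by
    have := conj_mem_cj g hz
    rwa [hc, mul_inv_cancel_right] at this) hz h1)

theorem comm_ne (hV : V ∈ 𝒱) (hW : W ∈ 𝒲) (hi : V ⊓ W ≠ ⊥) (hv : v ∈ V) (hw : w ∈ W)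
    (hc : v * w = w * v) : v ∈ W ∨ w ∈ V := by
  by_contra hn
  push Not at hn
  have v1 : v ≠ 1 := fun e => hn.1 (e ▸ one_mem _)
  have w1 : w ≠ 1 := fun e => hn.2 (e ▸ one_mem _)
  obtain ⟨W', hW', hv'⟩ := h.r.cover v (h.l.le V hV hv) (h.l.sq V hV v hv)
  obtain ⟨V', hV', hw'⟩ := h.l.cover w (h.r.le W hW hw) (h.r.sq W hW w hw)
  have h1 := h.symm.nm_of_comm hW' (h.r.conj _ hW' w (h.r.le W hW hw)) hv' v1 hc.symm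
  rcases h.l.uniq V hV V' hV' W hW W' hW' hi (inc_of_mem hw' hw w1) (inc_of_mem hv hv' v1)
    (inc_symm ((h.r.norm W' hW' V' hV' w hw' w1).1 h1)) with e | e
  exacts [hn.2 (e ▸ hw'), hn.1 (e ▸ hv')]

theorem mem_or_mem (hV : V ∈ 𝒱) (hW : W ∈ 𝒲) (hi : V ⊓ W ≠ ⊥) (hx : x ∈ V ⊔ W)
    (h2 : x * x = 1) : x ∈ V ∨ x ∈ W := by
  obtain ⟨v, hv, w, hw, rfl⟩ := (mem_sup_of_nm' (h.le_nm hV hW hi)).1 hx
  have h3 : v * w = w * v := by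
    calc v * w = (v * w)⁻¹ := (inv_of_sq h2).symm
      _ = w * v := by rw [mul_inv_rev, inv_of_sq (h.l.sq V hV v hv), inv_of_sq (h.r.sq W hW w hw)]
  rcases h.comm_ne hV hW hi hv hw h3 with h4 | h4
  exacts [Or.inr (mul_mem h4 hw), Or.inl (mul_mem hv h4)]

theorem elab_le (hT : T ≤ N) (h2 : ∀ x ∈ T, x * x = 1) :
    (∃ V ∈ 𝒱, T ≤ V) ∨ ∃ W ∈ 𝒲, T ≤ W := by
  by_cases hb : T = ⊥
  · obtain ⟨V, hV, -⟩ := h.l.cover 1 (one_mem _) (one_mul _)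
    exact Or.inl ⟨V, hV, hb ▸ bot_le⟩
  obtain ⟨z, -, hz, z1⟩ := exists_of_inc (X := T) (Y := T) (by rwa [inf_idem])
  obtain ⟨V, hV, hzV⟩ := h.l.cover z (hT hz) (h2 z hz)
  obtain ⟨W, hW, hzW⟩ := h.r.cover z (hT hz) (h2 z hz)
  refine (le_or_le fun x hx => ?_).imp (fun e => ⟨V, hV, e⟩) fun e => ⟨W, hW, e⟩
  by_cases x1 : x = 1
  · exact Or.inl (x1 ▸ one_mem _)
  obtain ⟨V', hV', hxV⟩ := h.l.cover x (hT hx) (h2 x hx)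
  obtain ⟨W', hW', hxW⟩ := h.r.cover x (hT hx) (h2 x hx)
  have h3 := h.nm_of_comm hV (h.l.conj _ hV x (hT hx)) hzV z1 (comm_of_sq h2 hx hz)
  have h4 := h.nm_of_comm hV' (h.l.conj _ hV' z (hT hz)) hxV x1 (comm_of_sq h2 hz hx)
  rcases h.l.uniq V hV V' hV' W hW W' hW' (inc_of_mem hzV hzW z1)
    ((h.l.norm V' hV' W hW z hzW z1).1 h4) ((h.l.norm V hV W' hW' x hxW x1).1 h3)
    (inc_of_mem hxV hxW x1) with e | e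
  exacts [Or.inl (e ▸ hxV), Or.inr (e ▸ hxW)]

theorem cent_of_nm (hg : g ∈ nm N) (hp : ∀ V ∈ 𝒱, g ∈ nm V) : g ∈ ce N := mem_ce.2 fun x hx => by
  have h1 := h.l.faith _ (comm_symm (comm_mem_of_nm hg hx)) fun V hV => by
    have e : ⁅x, g⁆ = x * g * x⁻¹ * g⁻¹ := rfl
    rw [e]
    refine mul_mem (mem_nm_iff.2 ?_) (inv_mem (hp V hV))
    rw [← cj_cj, ← cj_cj, cj_eq (hp _ (h.l.conj V hV _ (inv_mem hx))), cj_inv']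
  exact commutatorElement_eq_one_iff_mul_comm.1 h1

theorem inf_ce (hx : x ∈ N) (hc : x ∈ ce N) : x = 1 :=
  h.l.faith x hx fun V hV => ce_le_nm (h.l.le V hV) hc

variable [Finite G]

theorem not_le (hV : V ∈ 𝒱) (hW : W ∈ 𝒲) : ¬ V ≤ W := fun e =>
  h.l.nmem V hV ((H91.eq_of_le_of_card_le e (by rw [h.l.card V hV, h.r.card W hW])) ▸ hW)

theorem ne_bot (hV : V ∈ 𝒱) : V ≠ ⊥ := fun e => by
  obtain ⟨W, hW, -⟩ := h.r.cover 1 (one_mem _) (one_mul _)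
  exact h.not_le hV hW (e ▸ bot_le)

theorem el_mem (hT : T ≤ N) (h2 : ∀ x ∈ T, x * x = 1) (hc : Nat.card T = 2 ^ n * 2 ^ n) :
    T ∈ 𝒱 ∨ T ∈ 𝒲 :=
  (h.elab_le hT h2).imp
    (fun ⟨V, hV, e⟩ => H91.eq_of_le_of_card_le e (by rw [h.l.card V hV, hc]) ▸ hV)
    fun ⟨W, hW, e⟩ => H91.eq_of_le_of_card_le e (by rw [h.r.card W hW, hc]) ▸ hW

theorem cj_mem (hg : g ∈ nm N) (hV : V ∈ 𝒱) : cj g V ∈ 𝒱 ∨ cj g V ∈ 𝒲 :=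
  h.el_mem ((cj_mono g (h.l.le V hV)).trans (cj_eq hg).le) (fun x hx => by
    have := h.l.sq V hV _ (mem_cj.1 hx)
    calc x * x = g * (g⁻¹ * x * g * (g⁻¹ * x * g)) * g⁻¹ := by group
      _ = 1 := by rw [this]; group) (by rw [card_cj, h.l.card V hV])

omit [Finite G] in
theorem cj_all {𝒳 : Set (Subgroup G)} (h𝒳 : ∀ X ∈ 𝒳, ∀ g ∈ N, cj g X ∈ 𝒳) (hg : g ∈ nm N)
    (hV : V ∈ 𝒱) (h1 : cj g V ∈ 𝒳) (hV' : V' ∈ 𝒱) : cj g V' ∈ 𝒳 := by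
  obtain ⟨x, hx, rfl⟩ := h.l.trans V hV V' hV'
  have := h𝒳 _ h1 _ (conj_mem hg hx)
  rwa [cj_cj, inv_mul_cancel_right, ← cj_cj] at this

theorem pres (hg : g ∈ nm N) (hV : V ∈ 𝒱) (h1 : cj g V ∈ 𝒱) :
    (∀ V ∈ 𝒱, cj g V ∈ 𝒱) ∧ ∀ W ∈ 𝒲, cj g W ∈ 𝒲 := by
  refine ⟨fun V' hV' => h.cj_all h.l.conj hg hV h1 hV', fun W hW => ?_⟩
  refine (h.symm.cj_mem hg hW).resolve_right fun h2 => ?_
  have h3 := h.cj_all h.l.conj (inv_mem hg) h1 (by rwa [cj_inv]) h2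
  rw [cj_inv] at h3
  exact h.l.nmem W h3 hW

theorem swap (hg : g ∈ nm N) (hV : V ∈ 𝒱) (h1 : cj g V ∉ 𝒱) :
    (∀ V ∈ 𝒱, cj g V ∈ 𝒲) ∧ ∀ W ∈ 𝒲, cj g W ∈ 𝒱 :=
  ⟨fun _ hV' => h.cj_all h.r.conj hg hV ((h.cj_mem hg hV).resolve_left h1) hV',
    fun _ hW => (h.symm.cj_mem hg hW).resolve_left fun h2 =>
      h1 ((h.symm.pres hg hW h2).2 V hV)⟩

theorem card_sup (hV : V ∈ 𝒱) (hW : W ∈ 𝒲) (hi : V ⊓ W ≠ ⊥) :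
    Nat.card ↥(V ⊔ W) = (2 ^ n) ^ 3 := by
  have h1 := card_sup_mul (h.symm.le_nm hW hV (inc_symm hi))
  rw [h.l.inf V hV W hW hi, h.l.card V hV, h.r.card W hW] at h1
  exact Nat.eq_of_mul_eq_mul_right (m := 2 ^ n) (by positivity) (by rw [h1]; ring)

theorem sylIn (hV : V ∈ 𝒱) (hW : W ∈ 𝒲) (hi : V ⊓ W ≠ ⊥) : H92.SylIn 2 (V ⊔ W) N := by
  have hle := sup_le (h.l.le V hV) (h.r.le W hW)
  refine H92.sylIn_of_not_dvd_relIndex hle (IsPGroup.of_card (n := n * 3)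
    (by rw [h.card_sup hV hW hi, pow_mul])) fun hd => ?_
  obtain ⟨k, hk, e⟩ := h.syl
  have h1 := H91.card_mul_relIndex hle
  rw [h.card_sup hV hW hi, e] at h1
  rw [Nat.eq_of_mul_eq_mul_left (by positivity) h1] at hd
  exact hk.not_two_dvd_nat hd

theorem exists_flag (hU : H92.SylIn 2 U N) : ∃ V ∈ 𝒱, ∃ W ∈ 𝒲, V ⊓ W ≠ ⊥ ∧ U = V ⊔ W := by
  obtain ⟨V, hV, -⟩ := h.l.cover 1 (one_mem _) (one_mul _)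
  obtain ⟨W, hW, hi, -⟩ := h.l.join V hV V hV
  obtain ⟨g, hg, e⟩ := (h.sylIn hV hW hi).exists_conj_eq hU
  refine ⟨_, h.l.conj V hV _ (inv_mem hg), _, h.r.conj W hW _ (inv_mem hg), inc_cj _ hi, ?_⟩
  ext x
  rw [e, ← cj_sup, mem_cj, inv_inv]

/-- An involution of `N` normalizing an overgroup of a Sylow subgroup lies in it. -/
theorem mem_of_nm (hV : V ∈ 𝒱) (hW : W ∈ 𝒲) (hi : V ⊓ W ≠ ⊥) (hH : H ≤ N) (hU : V ⊔ W ≤ H)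
    (hz : z ∈ N) (h2 : z * z = 1) (hn : z ∈ nm H) : z ∈ H := by
  by_contra hz'
  have h1 := card_sup_zpowers (p := 2) hn (by rw [pow_two, h2]; exact one_mem _) hz'
  have h3 := card_dvd_of_le (sup_le hH (zpowers_le_of_mem hz))
  obtain ⟨k, hk, e⟩ := h.syl
  obtain ⟨j, hj⟩ := card_dvd_of_le hU
  rw [h1, hj, h.card_sup hV hW hi, e, mul_left_comm,
    Nat.mul_dvd_mul_iff_left (by positivity)] at h3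
  exact hk.not_two_dvd_nat ((Dvd.intro _ rfl).trans h3)

/-- The members of the class inside a Sylow subgroup. -/
theorem eq_of_le_sup (hV : V ∈ 𝒱) (hW : W ∈ 𝒲) (hi : V ⊓ W ≠ ⊥) (hV' : V' ∈ 𝒱)
    (hle : V' ≤ V ⊔ W) : V' = V := by
  rcases le_or_le fun x hx => h.mem_or_mem hV hW hi (hle hx) (h.l.sq V' hV' x hx) with e | e
  · exact h.l.disj _ hV' _ hV (by rw [inf_eq_left.2 e]; exact h.ne_bot hV')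
  · exact (h.not_le hV' hW e).elim

/-- Elements centralizing an axis group. -/
theorem cent_axis (hW : W ∈ 𝒲) (hg : g ∈ nm N) (hc : g ∈ ce W) : ∃ w ∈ W, w⁻¹ * g ∈ ce N := by
  have hp := (h.symm.pres hg hW (by rw [cj_eq (ce_le_nm le_rfl hc)]; exact hW)).2
  have h1 : ∀ V ∈ 𝒱, V ⊓ W ≠ ⊥ → g ∈ nm V := fun V hV hi => by
    obtain ⟨z, a, b, c⟩ := exists_of_inc hi
    exact h.nm_of_comm hV (hp V hV) a c (mem_ce.1 hc z b).symm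
  have hWN := (h.r.le W hW).trans le_normalizer
  by_cases he : ∃ V ∈ 𝒱, V ⊓ W = ⊥
  · obtain ⟨V, hV, hi⟩ := he
    obtain ⟨w, hw, e⟩ := h.l.reg W hW V hV _ (hp V hV) hi (by
      rw [← cj_eq (ce_le_nm le_rfl hc), ← cj_inf, hi]; exact map_bot _)
    refine ⟨w, hw, h.cent_of_nm (mul_mem (inv_mem (hWN hw)) hg) fun V' hV' => ?_⟩
    by_cases hi' : V' ⊓ W = ⊥
    · obtain ⟨w', hw', rfl⟩ := h.l.reg W hW V hV V' hV' hi hi'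
      rw [mem_nm_iff, cj_cj, mul_assoc, ← mem_ce.1 hc w' hw', ← mul_assoc,
        comm_of_sq (h.r.sq W hW) (inv_mem hw) hw', mul_assoc, ← cj_cj, ← cj_cj, ← e, cj_inv]
    · exact mul_mem (inv_mem (h.le_nm hV' hW hi' hw)) (h1 V' hV' hi')
  · push Not at he
    exact ⟨1, one_mem _, by simpa using h.cent_of_nm hg fun V hV => h1 V hV (he V hV)⟩

/-- A `2`-element fixing all lines through a point centralizes the centre group. -/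
theorem cent_of_lines (hV : V ∈ 𝒱) (hl : ∀ W ∈ 𝒲, V ⊓ W ≠ ⊥ → t ∈ nm W)
    (hz : z ∈ V) (z1 : z ≠ 1) (hc : t * z = z * t) : t ∈ ce V := by
  obtain ⟨W, hW, hzW⟩ := h.r.cover z (h.l.le V hV hz) (h.l.sq V hV z hz)
  have key : V ≤ centralizer {t} := le_of_compl (h.not_le hV hW) fun v hv hv' => by
    have v1 : v ≠ 1 := fun e => hv' (e ▸ one_mem _)
    have v2 : v * z ≠ 1 := fun e => hv' (eq_inv_of_mul_eq_one_left e ▸ inv_mem hzW)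
    obtain ⟨W₁, hW₁, h1⟩ := h.r.cover v (h.l.le V hV hv) (h.l.sq V hV v hv)
    obtain ⟨W₂, hW₂, h2⟩ := h.r.cover _ (h.l.le V hV (mul_mem hv hz)) (h.l.sq V hV _ (mul_mem hv hz))
    have h3 := comm_mem_of_nm (hl W₁ hW₁ (inc_of_mem hv h1 v1)) h1
    have h4 := comm_mem_of_nm (hl W₂ hW₂ (inc_of_mem (mul_mem hv hz) h2 v2)) h2
    rw [comm_mul_right, commutatorElement_eq_one_iff_mul_comm.2 hc, mul_one, mul_inv_cancel,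
      mul_one] at h4
    by_contra hn
    have e := h.symm.eq_of_mem hW₁ hW₂ h3 h4 fun e =>
      hn (mem_centralizer_singleton_iff.2 (commutatorElement_eq_one_iff_mul_comm.1 e).symm)
    rw [← e, mul_mem_cancel_left h1] at h2
    exact hv' (h.symm.eq_of_mem hW₁ hW h2 hzW z1 ▸ h1)
  exact mem_ce.2 fun v hv => mem_centralizer_singleton_iff.1 (key hv)

/-- The centre group is transitive on the other points of a line through the centre. -/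
theorem trans_line {V₁ V₂ : Subgroup G} (hV : V ∈ 𝒱) (hW : W ∈ 𝒲) (hi : V ⊓ W ≠ ⊥) (h1 : V₁ ∈ 𝒱)
    (h2 : V₂ ∈ 𝒱) (i1 : V₁ ⊓ W ≠ ⊥) (i2 : V₂ ⊓ W ≠ ⊥) (n1 : V₁ ≠ V) (n2 : V₂ ≠ V) :
    ∃ v ∈ V, cj v V₁ = V₂ := by
  have key : ∀ V' ∈ 𝒱, V' ⊓ W ≠ ⊥ → V' ≠ V → ∃ W' ∈ 𝒲, V' ⊓ W' ≠ ⊥ ∧ W' ⊓ V = ⊥ := by
    intro V' hV' i ne
    obtain ⟨x, hx, hx'⟩ := SetLike.not_le_iff_exists.1 (h.not_le hV' hW)
    obtain ⟨W', hW', hxW⟩ := h.r.cover x (h.l.le _ hV' hx) (h.l.sq _ hV' x hx)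
    have i' := inc_of_mem hx hxW fun e => hx' (e ▸ one_mem _)
    refine ⟨W', hW', i', by_contra fun i'' => ?_⟩
    rcases h.l.uniq V' hV' V hV W hW W' hW' i hi i' (inc_symm i'') with e | e
    exacts [ne e, hx' (e ▸ hxW)]
  obtain ⟨W₁, a1, b1, c1⟩ := key V₁ h1 i1 n1
  obtain ⟨W₂, a2, b2, c2⟩ := key V₂ h2 i2 n2
  obtain ⟨v, hv, e⟩ := h.r.reg V hV W₁ a1 W₂ a2 c1 c2
  refine ⟨v, hv, (h.l.uniq _ (h.l.conj V₁ h1 v (h.l.le V hV hv)) V₂ h2 W hW W₂ a2 ?_ i2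
    (e ▸ inc_cj v b1) b2).resolve_right fun e' => hi (by rw [e', inf_comm, c2])⟩
  rw [← cj_eq (h.symm.le_nm hW hV (inc_symm hi) hv)]
  exact inc_cj v i1

end Pl

end Cfsg.Agent.H32.P3
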