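import Cfsg.Agent.H32.P3Pl

/-! More consequences of the axioms: overgroups of Sylow subgroups, counting, transport. -/

set_option autoImplicit false

namespace Cfsg.Agent.H32.P3

open Subgroup Cfsg.Agent.SR3
open scoped commutatorElement

universe u v

theorem part {α ι : Type*} {S : Set α} (hS : S.Finite) {I : Set ι} (hI : I.Finite) (B : ι → Set α)
    (k : ℕ) (h1 : ∀ i ∈ I, B i ⊆ S) (h2 : ∀ i ∈ I, (B i).ncard = k)
    (h3 : ∀ x ∈ S, ∃ i ∈ I, x ∈ B i) (h4 : ∀ i ∈ I, ∀ j ∈ I, ∀ x ∈ B i, x ∈ B j → i = j) :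
    S.ncard = I.ncard * k := by
  have e : S = ⋃ i ∈ I, B i := by
    ext x
    simp only [Set.mem_iUnion, exists_prop]
    exact ⟨h3 x, fun ⟨i, hi, hx⟩ => h1 i hi hx⟩
  rw [e, hI.ncard_biUnion (fun i hi => hS.subset (h1 i hi))
    (fun i hi j hj ne => Set.disjoint_left.2 fun x a b => ne (h4 i hi j hj x a b)),
    finsum_mem_congr rfl h2, finsum_mem_eq_finite_toFinset_sum _ hI, Finset.sum_const,
    Set.ncard_eq_toFinset_card I hI, smul_eq_mul]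

variable {G : Type u} [Group G] {n : ℕ} {N H S T U V V' W W' X Y : Subgroup G}
  {𝒱 𝒲 : Set (Subgroup G)} {g t v w x y z : G}

theorem ncard_diff_one [Finite G] (X : Subgroup G) :
    ((X : Set G) \ {1}).ncard + 1 = Nat.card X := by
  rw [Set.ncard_sdiff_singleton_add_one X.one_mem]; rfl

section map

variable {G' : Type v} [Group G'] {f : G →* G'}

theorem cj_map (f : G →* G') (g : G) (X : Subgroup G) : cj (f g) (X.map f) = (cj g X).map f := by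
  simp only [cj, map_map]; congr 1; ext x; simp

theorem nm_map (hf : Function.Injective f) : f g ∈ nm (X.map f) ↔ g ∈ nm X := by
  rw [mem_nm_iff, mem_nm_iff, cj_map, (map_injective hf).eq_iff]

theorem inc_map (hf : Function.Injective f) : X.map f ⊓ Y.map f = ⊥ ↔ X ⊓ Y = ⊥ := by
  rw [← map_inf _ _ _ hf, map_eq_bot_iff_of_injective _ hf]

theorem Tor.map (h : Tor N V W) (hf : Function.Injective f) :
    Tor (N.map f) (V.map f) (W.map f) where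
  t0 := by
    rintro _ ⟨⟨⟨g, hg, rfl⟩, a⟩, b⟩ _ ⟨⟨⟨k, hk, rfl⟩, c⟩, d⟩ _ ⟨w, hw, rfl⟩
    rw [← map_commutatorElement, ← map_commutatorElement]
    exact mem_map_of_mem f (h.t0 g ⟨⟨hg, (nm_map hf).1 a⟩, (nm_map hf).1 b⟩ k
      ⟨⟨hk, (nm_map hf).1 c⟩, (nm_map hf).1 d⟩ w hw)
  t1 := by
    rintro _ ⟨w, hw, rfl⟩ a _ ⟨w', hw', rfl⟩ b
    obtain ⟨s, hs, t, ht, c1, c2, c3, c4⟩ := h.t1 w hw
      (fun e => a (mem_map_of_mem f e)) w' hw' fun e => b (mem_map_of_mem f e)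
    refine ⟨f s, ⟨mem_map_of_mem f hs.1, (nm_map hf).2 hs.2⟩, f t,
      ⟨mem_map_of_mem f ht.1, (nm_map hf).2 ht.2⟩, by rw [← map_mul, c1, map_one],
      by rw [← map_mul, c2, map_one], by rw [← map_mul]; exact (nm_map hf).2 c3, ?_⟩
    simpa using mem_map_of_mem f c4

theorem Pl0.map (h : Pl0 n N 𝒱 𝒲) (hf : Function.Injective f) :
    Pl0 n (N.map f) (Subgroup.map f '' 𝒱) (Subgroup.map f '' 𝒲) where
  le := by rintro _ ⟨V, hV, rfl⟩; exact map_mono (h.le V hV)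
  sq := by rintro _ ⟨V, hV, rfl⟩ _ ⟨x, hx, rfl⟩; rw [← map_mul, h.sq V hV x hx, map_one]
  card := by rintro _ ⟨V, hV, rfl⟩; rw [card_map_of_injective hf, h.card V hV]
  conj := by rintro _ ⟨V, hV, rfl⟩ _ ⟨g, hg, rfl⟩; exact ⟨_, h.conj V hV g hg, (cj_map f g V).symm⟩
  trans := by
    rintro _ ⟨V, hV, rfl⟩ _ ⟨V', hV', rfl⟩
    obtain ⟨g, hg, e⟩ := h.trans V hV V' hV'
    exact ⟨_, mem_map_of_mem f hg, by rw [cj_map, e]⟩
  cover := by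
    rintro _ ⟨z, hz, rfl⟩ h2
    obtain ⟨V, hV, e⟩ := h.cover z hz (hf (by rw [map_mul, h2, map_one]))
    exact ⟨_, ⟨V, hV, rfl⟩, mem_map_of_mem f e⟩
  disj := by
    rintro _ ⟨V, hV, rfl⟩ _ ⟨V', hV', rfl⟩ hi
    rw [h.disj V hV V' hV' (mt (inc_map hf).2 hi)]
  nmem := by
    rintro _ ⟨V, hV, rfl⟩ ⟨W, hW, e⟩
    exact h.nmem V hV (map_injective hf e ▸ hW)
  inf := by
    rintro _ ⟨V, hV, rfl⟩ _ ⟨W, hW, rfl⟩ hi
    rw [← map_inf _ _ _ hf, card_map_of_injective hf, h.inf V hV W hW (mt (inc_map hf).2 hi)]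
  join := by
    rintro _ ⟨V, hV, rfl⟩ _ ⟨V', hV', rfl⟩
    obtain ⟨W, hW, a, b⟩ := h.join V hV V' hV'
    exact ⟨_, ⟨W, hW, rfl⟩, mt (inc_map hf).1 a, mt (inc_map hf).1 b⟩
  uniq := by
    rintro _ ⟨V, hV, rfl⟩ _ ⟨V', hV', rfl⟩ _ ⟨W, hW, rfl⟩ _ ⟨W', hW', rfl⟩ a b c d
    exact (h.uniq V hV V' hV' W hW W' hW' (mt (inc_map hf).2 a) (mt (inc_map hf).2 b)
      (mt (inc_map hf).2 c) (mt (inc_map hf).2 d)).imp (congrArg _) (congrArg _)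
  norm := by
    rintro _ ⟨V, hV, rfl⟩ _ ⟨W, hW, rfl⟩ _ ⟨z, hz, rfl⟩ z1
    rw [nm_map hf, Ne, inc_map hf]
    exact h.norm V hV W hW z hz fun e => z1 (by rw [e, map_one])
  reg := by
    rintro _ ⟨W, hW, rfl⟩ _ ⟨V, hV, rfl⟩ _ ⟨V', hV', rfl⟩ a b
    obtain ⟨w, hw, e⟩ := h.reg W hW V hV V' hV' ((inc_map hf).1 a) ((inc_map hf).1 b)
    exact ⟨_, mem_map_of_mem f hw, by rw [cj_map, e]⟩
  faith := by
    rintro _ ⟨g, hg, rfl⟩ h1
    rw [h.faith g hg fun V hV => (nm_map hf).1 (h1 _ ⟨V, hV, rfl⟩), map_one]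
  tor := by
    rintro _ ⟨V, hV, rfl⟩ _ ⟨W, hW, rfl⟩ hi
    exact (h.tor V hV W hW (mt (inc_map hf).2 hi)).map hf
  tor2 := by
    obtain ⟨V, hV, H, hH, s, hs, a, b, c, d, e, k⟩ := h.tor2
    refine ⟨_, ⟨V, hV, rfl⟩, H.map f, map_mono hH, f s, mem_map_of_mem f hs,
      by rw [cj_map]; exact fun e => a (map_injective hf e),
      by rw [card_map_of_injective hf, b], ?_, ?_, ?_, fun hn => ?_⟩
    · rintro _ ⟨x, hx, rfl⟩; exact (nm_map hf).2 (c hx)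
    · rintro _ ⟨x, hx, rfl⟩; rw [← map_inv, ← map_inv, ← map_mul, ← map_mul, d x hx]
    · rintro _ ⟨x, hx, rfl⟩ x1 _ ⟨V', hV', rfl⟩ _ ⟨W, hW, rfl⟩ i1 i2 i3 i4
      rw [cj_map] at i2 ⊢
      exact (e x hx (fun e => x1 (by rw [e, map_one])) V' hV' W hW (mt (inc_map hf).2 i1)
        (mt (inc_map hf).2 i2) (mt (inc_map hf).2 i3) ((nm_map hf).1 i4)).imp
        (congrArg _) (congrArg _)
    · obtain ⟨x, hx, y, hy, c1, c2, c3, c4⟩ := k hn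
      exact ⟨f x, ⟨mem_map_of_mem f hx.1, (nm_map hf).2 hx.2⟩, f y,
        ⟨mem_map_of_mem f hy.1, (nm_map hf).2 hy.2⟩, by rw [← map_mul, c1, map_one],
        by rw [← map_mul, c2, map_one], by rw [← map_mul]; exact mem_map_of_mem f c3,
        fun e => c4 (hf (by rw [map_mul, e, map_one]))⟩

theorem Pl.map (h : Pl n N 𝒱 𝒲) (hf : Function.Injective f) :
    Pl n (N.map f) (Subgroup.map f '' 𝒱) (Subgroup.map f '' 𝒲) where
  l := h.l.map hf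
  r := h.r.map hf
  pos := h.pos
  syl := by rw [card_map_of_injective hf]; exact h.syl
  simple := fun K hK h1 => by
    have e : (K.comap f).map f = K := map_comap_eq_self (hK.trans (map_le_range f N))
    rcases h.simple (K.comap f) (fun x hx => by
      obtain ⟨y, hy, e'⟩ := hK hx
      exact hf e' ▸ hy) (fun g hg => (nm_map hf).1 (e.symm ▸ h1 (mem_map_of_mem f hg))) with h2 | h2
    · left; rw [← e, h2, Subgroup.map_bot]
    · right; rw [← e, h2]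
  isConj := by
    rintro _ ⟨z, hz, rfl⟩ _ ⟨z', hz', rfl⟩ a b c d
    obtain ⟨g, hg, e⟩ := h.isConj z hz z' hz' (hf (by rw [map_mul, a, map_one]))
      (hf (by rw [map_mul, b, map_one])) (fun e => c (by rw [e, map_one]))
      fun e => d (by rw [e, map_one])
    exact ⟨_, mem_map_of_mem f hg, by rw [← e]; simp⟩
  ord := by rw [card_map_of_injective hf]; exact h.ord

theorem Pl.conj (h : Pl n N 𝒱 𝒲) (g : G) : Pl n (cj g N) (cj g '' 𝒱) (cj g '' 𝒲) :=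
  h.map (MulAut.conj g).injective

end map

namespace Pl

variable [Finite G] (h : Pl n N 𝒱 𝒲)
include h

theorem lines_fix (hV : V ∈ 𝒱) (hS : IsPGroup 2 S) (hVS : V ≤ S) (htS : t ∈ S) (hN : t ∈ nm N)
    (ht : t ∈ nm V) (hl : ∀ W ∈ 𝒲, V ⊓ W ≠ ⊥ → t ∈ nm W) : ∃ v ∈ V, v⁻¹ * t ∈ ce N := by
  obtain ⟨z, hz, z1, h1⟩ := exists_Zo (hS.to_le (sup_le hVS (zpowers_le_of_mem htS))) le_sup_left
    (sup_le le_normalizer (zpowers_le_of_mem ht)) (h.ne_bot hV)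
  exact h.symm.cent_axis hV hN (h.cent_of_lines hV hl hz z1
    (mem_ce.1 (Zo_le h1).2 t (mem_sup_right (mem_zpowers t))))

theorem big_cent (hV : V ∈ 𝒱) (hN : t ∈ nm N) (ht : t ∈ nm V)
    (hc : 2 ^ n < Nat.card ↥(V ⊓ centralizer {t})) : ∃ v ∈ V, v⁻¹ * t ∈ ce N := by
  have hp := (h.pres hN hV (by rw [cj_eq ht]; exact hV)).2
  have key : ∀ W ∈ 𝒲, V ⊓ W ≠ ⊥ → (V ⊓ centralizer {t}) ⊓ (V ⊓ W) ≠ ⊥ := fun W hW hi e => by
    have h1 := card_sup_mul (X := V ⊓ centralizer {t}) (Y := V ⊓ W) fun x hx =>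
      nm_inf (le_normalizer hx.1) (h.symm.le_nm hW hV (inc_symm hi) hx.1)
    have h2 := H91.card_le_of_le (sup_le inf_le_left inf_le_left :
      (V ⊓ centralizer {t}) ⊔ (V ⊓ W) ≤ V)
    rw [e, card_bot, mul_one, h.l.inf V hV W hW hi] at h1
    rw [h1, h.l.card V hV] at h2
    exact absurd (Nat.le_of_mul_le_mul_right h2 (by positivity)) (Nat.not_le.2 hc)
  obtain ⟨W, hW, hi, -⟩ := h.l.join V hV V hV
  obtain ⟨z, a, -, c⟩ := exists_of_inc (key W hW hi)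
  refine h.symm.cent_axis hV hN (h.cent_of_lines hV (fun W hW hi => ?_) a.1 c
    (mem_centralizer_singleton_iff.1 a.2).symm)
  obtain ⟨z, a, b, c⟩ := exists_of_inc (key W hW hi)
  exact h.symm.nm_of_comm hW (hp W hW) b.2 c (mem_centralizer_singleton_iff.1 a.2).symm

theorem other (hV : V ∈ 𝒱) (hW : W ∈ 𝒲) : ∃ W' ∈ 𝒲, V ⊓ W' ≠ ⊥ ∧ W' ≠ W := by
  obtain ⟨x, hx, hx'⟩ := SetLike.not_le_iff_exists.1 (h.not_le hV hW)
  obtain ⟨W', hW', hxW⟩ := h.r.cover x (h.l.le _ hV hx) (h.l.sq _ hV x hx)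
  exact ⟨W', hW', inc_of_mem hx hxW fun e => hx' (e ▸ one_mem _), fun e => hx' (e ▸ hxW)⟩

theorem flag_fix (hV : V ∈ 𝒱) (hW : W ∈ 𝒲) (hi : V ⊓ W ≠ ⊥) (hS : IsPGroup 2 S) (hU : V ⊔ W ≤ S)
    (htS : t ∈ S) (hN : t ∈ nm N) (h1 : t ∈ nm V) (h2 : t ∈ nm W) (h3 : ∀ w ∈ W, ⁅t, w⁆ ∈ V) :
    ∃ u ∈ V ⊔ W, u⁻¹ * t ∈ ce N := by
  obtain ⟨W₁, hW₁, i1, n1⟩ := h.other hV hW
  have hp := (h.pres hN hV (by rw [cj_eq h1]; exact hV)).2
  have hWN := (h.r.le W hW).trans le_normalizer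
  have hWV := h.le_nm hV hW hi
  obtain ⟨w, hw, e⟩ := h.symm.trans_line hW hV (inc_symm hi) hW₁ (hp _ hW₁) (inc_symm i1)
    (by rw [← cj_eq h1]; exact inc_cj t (inc_symm i1)) n1
    (fun e => n1 (by rw [← cj_inv t W₁, e, cj_eq (inv_mem h2)]))
  obtain ⟨v, hv, h4⟩ := h.lines_fix (t := w⁻¹ * t) hV hS (le_sup_left.trans hU)
    (mul_mem (inv_mem (hU (mem_sup_right hw))) htS) (mul_mem (inv_mem (hWN hw)) hN)
    (mul_mem (inv_mem (hWV hw)) h1) fun W' hW' i' => by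
      by_cases e' : W' = W
      · rw [e']; exact mul_mem (inv_mem (le_normalizer hw)) h2
      obtain ⟨w', hw', rfl⟩ := h.symm.trans_line hW hV (inc_symm hi) hW₁ hW' (inc_symm i1)
        (inc_symm i') n1 e'
      have e1 : w⁻¹ * t * w' = (w⁻¹ * ⁅t, w'⁆ * w⁻¹⁻¹) * (w⁻¹ * w') * t := by
        rw [commutatorElement_def]; group
      rw [mem_nm_iff, cj_cj, e1, comm_of_sq (h.r.sq W hW) (inv_mem hw) hw', ← cj_cj, ← e,
        ← cj_cj, ← cj_cj w', cj_inv]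
      exact cj_eq (h.symm.le_nm hW' hV (inc_symm i') (conj_mem (inv_mem (hWV hw)) (h3 w' hw')))
  exact ⟨w * v, mul_mem (mem_sup_right hw) (mem_sup_left hv), by rwa [mul_inv_rev, mul_assoc]⟩

theorem card_lines (hV : V ∈ 𝒱) : {W ∈ 𝒲 | V ⊓ W ≠ ⊥}.ncard = 2 ^ n + 1 := by
  have h1 := part (S := (V : Set G) \ {1}) (Set.toFinite _) (I := {W ∈ 𝒲 | V ⊓ W ≠ ⊥})
    (Set.toFinite _) (fun W => ((V ⊓ W : Subgroup G) : Set G) \ {1}) (2 ^ n - 1)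
    (fun W _ x hx => ⟨hx.1.1, hx.2⟩)
    (fun W hW => by have := ncard_diff_one (V ⊓ W); rw [h.l.inf V hV W hW.1 hW.2] at this; omega)
    (fun x hx => by
      obtain ⟨W, hW, e⟩ := h.r.cover x (h.l.le V hV hx.1) (h.l.sq V hV x hx.1)
      exact ⟨W, ⟨hW, inc_of_mem hx.1 e hx.2⟩, ⟨hx.1, e⟩, hx.2⟩)
    fun W hW W' hW' x a b => h.symm.eq_of_mem hW.1 hW'.1 a.1.2 b.1.2 a.2
  have h2 := ncard_diff_one V
  have h3 := h.two_le
  rw [h1, h.l.card V hV] at h2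
  obtain ⟨k, hk⟩ : ∃ k, 2 ^ n = k + 1 := ⟨2 ^ n - 1, by omega⟩
  rw [hk] at h2 h3 ⊢
  exact Nat.eq_of_mul_eq_mul_right (m := k) (by omega) (by simp at h2; nlinarith)

theorem card_pts : 𝒱.ncard = 2 ^ n * 2 ^ n + 2 ^ n + 1 := by
  obtain ⟨V, hV, -⟩ := h.l.cover 1 (one_mem _) (one_mul _)
  have h1 := part (S := 𝒱 \ {V}) (Set.toFinite _) (I := {W ∈ 𝒲 | V ⊓ W ≠ ⊥})
    (Set.toFinite _) (fun W => {V' ∈ 𝒱 | W ⊓ V' ≠ ⊥} \ {V}) (2 ^ n)
    (fun W _ x hx => ⟨hx.1.1, hx.2⟩)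
    (fun W hW => by
      have := Set.ncard_sdiff_singleton_add_one (s := {V' ∈ 𝒱 | W ⊓ V' ≠ ⊥}) (a := V)
        ⟨hV, inc_symm hW.2⟩
      rw [h.symm.card_lines hW.1] at this
      omega)
    (fun V' hV' => by
      obtain ⟨W, hW, a, b⟩ := h.l.join V hV V' hV'.1
      exact ⟨W, ⟨hW, a⟩, ⟨hV'.1, inc_symm b⟩, hV'.2⟩)
    fun W hW W' hW' V' a b => (h.l.uniq V' a.1.1 V hV W hW.1 W' hW'.1 (inc_symm a.1.2) hW.2
      (inc_symm b.1.2) hW'.2).resolve_left a.2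
  rw [← Set.ncard_sdiff_singleton_add_one hV, h1, h.card_lines hV]
  ring

theorem over1 (hV : V ∈ 𝒱) (hW : W ∈ 𝒲) (hi : V ⊓ W ≠ ⊥) (hH : H ≤ N) (hne : ¬ N ≤ H)
    (hU : V ⊔ W ≤ H) (hn : ¬ H ≤ nm V) : H ≤ nm W ∧ ∀ V' ∈ 𝒱, V' ⊓ W ≠ ⊥ → V' ≤ H := by
  have hc : ∀ X ≤ H, ∀ g ∈ H, cj g X ≤ H := fun X a g b =>
    (cj_mono g a).trans (cj_eq (le_normalizer b)).le
  have hVH := le_sup_left.trans hU
  have hWH := le_sup_right.trans hU
  have key : ∀ V' ∈ 𝒱, V' ≤ H → V' ⊓ W ≠ ⊥ := fun V' hV' a i' => by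
    have h1 : ∀ X ∈ 𝒱, X ⊓ W = ⊥ → X ≤ H := fun X hX i => by
      obtain ⟨w, hw, rfl⟩ := h.l.reg W hW V' hV' X hX i' i
      exact hc _ a w (hWH hw)
    have h2 : ∀ X ∈ 𝒱, X ≤ H := fun X hX => by
      by_contra hX'
      have i : X ⊓ W ≠ ⊥ := fun i => hX' (h1 X hX i)
      obtain ⟨W', hW', j1, j2⟩ := h.l.join V' hV' X hX
      have n1 : X ≠ V' := fun e => hX' (e ▸ a)
      have h3 := h.symm.card_lines hW'
      have h4 := h.two_le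
      obtain ⟨Y, hY, hY'⟩ : ∃ Y ∈ {Y ∈ 𝒱 | W' ⊓ Y ≠ ⊥}, Y ∉ ({V', X} : Set _) := by
        by_contra hh
        push Not at hh
        have := (Set.ncard_le_ncard hh).trans (Set.ncard_insert_le V' {X})
        rw [Set.ncard_singleton] at this
        omega
      simp only [Set.mem_insert_iff, Set.mem_singleton_iff, not_or] at hY'
      obtain ⟨v, hv, e⟩ := h.trans_line hV' hW' j1 hY.1 hX (inc_symm hY.2) j2 hY'.1 n1
      refine hX' (e ▸ hc Y (h1 Y hY.1 (by_contra fun j => ?_)) v (a hv))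
      rcases h.l.uniq Y hY.1 X hX W hW W' hW' j i (inc_symm hY.2) j2 with e | e
      exacts [hY'.2 e, j1 (e ▸ i')]
    rcases h.simple (sSup 𝒱) (sSup_le h.l.le) (fun g hg => mem_nm_of_cj_le (by
      rw [map_le_iff_le_comap]
      exact sSup_le fun X hX => map_le_iff_le_comap.1 (le_sSup (h.l.conj X hX g hg)))) with e | e
    · exact h.ne_bot hV (eq_bot_iff.2 (e ▸ le_sSup hV))
    · exact hne (e ▸ sSup_le h2)
  obtain ⟨g, hg, hg'⟩ := SetLike.not_le_iff_exists.1 hn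
  have m1 := h.l.conj V hV g (hH hg)
  have l1 := hc V hVH g hg
  have n1 : cj g V ≠ V := fun e => hg' (mem_nm_iff.2 e)
  refine ⟨fun k hk => mem_nm_iff.2 ((h.l.uniq _ (h.l.conj V hV k (hH hk)) _
    (h.l.conj _ m1 k (hH hk)) _ (h.r.conj W hW k (hH hk)) W hW (inc_cj k hi)
    (inc_cj k (key _ m1 l1)) (key _ (h.l.conj V hV k (hH hk)) (hc V hVH k hk))
    (key _ (h.l.conj _ m1 k (hH hk)) (hc _ l1 k hk))).resolve_left fun e => n1 ?_),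
    fun V' hV' i' => ?_⟩
  · rw [← cj_inv k (cj g V), ← e, cj_inv]
  · by_cases e : V' = V
    · exact e ▸ hVH
    · obtain ⟨v, hv, rfl⟩ := h.trans_line hV hW hi m1 hV' (key _ m1 l1) i' n1 e
      exact hc _ l1 v (hVH hv)

/-- A line group normalizes only the line groups equal to it. -/
theorem eq_of_le_nm (hV : V ∈ 𝒱) (hV' : V' ∈ 𝒱) (hle : V' ≤ nm V) : V' = V := by
  have key : ∀ W ∈ 𝒲, V' ⊓ W ≠ ⊥ → V ⊓ W ≠ ⊥ := fun W hW i => by
    obtain ⟨z, a, b, c⟩ := exists_of_inc i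
    exact (h.l.norm V hV W hW z b c).1 (hle a)
  obtain ⟨W, hW, i, -⟩ := h.l.join V' hV' V' hV'
  obtain ⟨W', hW', i', ne⟩ := h.other hV' hW
  exact (h.l.uniq V' hV' V hV W' hW' W hW i' (key W' hW' i') i (key W hW i)).resolve_right ne

end Pl

end Cfsg.Agent.H32.P3
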