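import Cfsg.Agent.H32.P3Geo
import Cfsg.Agent.H32.P3Ar

/-! The case `q = m²`. -/

set_option autoImplicit false

namespace Cfsg.Agent.H32.P3

open Subgroup MulAction Cfsg.Agent.SR3 Cfsg.Agent.H92 Cfsg.Agent.H12
open scoped commutatorElement

variable {G Ω : Type*} [Group G] [Finite G] {n m : ℕ} {V V' W : Subgroup G} {g s t x z : G}

theorem Pl.comm_surj {N : Subgroup G} {𝒱 𝒲 : Set (Subgroup G)} (h : Pl n N 𝒱 𝒲) (hV : V ∈ 𝒱)
    (hW : W ∈ 𝒲) (i : V ⊓ W ≠ ⊥) (hs : s ∈ V) (hs' : s ∉ W) (hx : x ∈ V ⊓ W) :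
    ∃ w ∈ W, ⁅s, w⁆ = x := by
  let φ : W →* G := MonoidHom.mk' (fun w => ⁅s, (w : G)⁆) fun a b => by
    rw [coe_mul, comm_mul_right, comm_of_sq (h.r.sq W hW) a.2 (h.comm_mem hV hW i hs b.2).2,
      mul_inv_cancel_right]
  have h1 : φ.ker.map W.subtype ≤ V ⊓ W := by
    rintro _ ⟨w, hw, rfl⟩
    exact ⟨(h.comm_ne hV hW i hs w.2 (commutatorElement_eq_one_iff_mul_comm.1 hw)).resolve_left hs',
      w.2⟩
  have h2 := H91.card_le_of_le h1
  have h3 := φ.ker.card_mul_index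
  rw [card_map_of_injective W.subtype_injective, h.l.inf V hV W hW i] at h2
  rw [index_ker, h.r.card W hW] at h3
  have h4 : φ.range = V ⊓ W := H91.eq_of_le_of_card_le
    (by rintro _ ⟨w, rfl⟩; exact h.comm_mem hV hW i hs w.2) (by
      rw [h.l.inf V hV W hW i]
      refine Nat.le_of_mul_le_mul_left (c := 2 ^ n) ?_ (by positivity)
      rw [← h3]; exact Nat.mul_le_mul_right _ h2)
  obtain ⟨w, e⟩ : x ∈ φ.range := h4 ▸ hx
  exact ⟨w, w.2, e⟩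

namespace Geo

variable [MulAction G Ω] [Finite Ω] {N : Ω → Subgroup G} {𝒱 𝒲 : Ω → Set (Subgroup G)}
  {c c' d : Ω} (h : Geo n N 𝒱 𝒲) (hm : ∀ c, ∀ V ∈ 𝒱 c, (Fx N V).ncard = m) (m2 : 2 ≤ m)
  (hq : 2 ^ n = m * m)
include h

theorem cent_plane (hW : W ∈ 𝒲 c) (hg : g ∈ ce W) (h1 : W ≤ N d) (h2 : W ≤ N c') (ne : d ≠ c')
    (h3 : g • d = d) (h4 : g • c' = c') : g ∈ W := by
  obtain ⟨w, hw, h5⟩ := (h.p d).cent_axis (h.mem_w hW h1) (h.nm_N h3) hg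
  rwa [← inv_mul_eq_one.1 (h.Z_semi ne h5 (by
    rw [mul_smul, h4, inv_smul_eq_iff]; exact (h.fix _ (h2 hw)).symm))]

include hm m2 hq

theorem ce_triv (hW : W ∈ 𝒲 c) (hg : g ∈ ce W) (h1 : W ≤ N d) : g • d = d := by
  by_contra hn
  let π : SubMulAction (nm W) Ω := ⟨Fx N W, fun g _ hx => h.le_nm_smul g.2 hx⟩
  obtain ⟨p, k, hp, e⟩ := pp (G := nm W) (Ω := π) (fun {a b c d} h1 h2 => by
      obtain ⟨g, hg, e1, e2⟩ := h.two_plane hW a.2 b.2 c.2 d.2 (fun e => h1 (Subtype.ext e))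
        fun e => h2 (Subtype.ext e)
      exact ⟨⟨g, hg⟩, Subtype.ext e1, Subtype.ext e2⟩) (C := (ce W).subgroupOf (nm W))
    ⟨fun x hx k => mem_subgroupOf.2 (conj_mem (nm_ce k.2) (mem_subgroupOf.1 hx))⟩ (g := ⟨g, ce_le_nm le_rfl hg⟩) hg (a := ⟨d, h1⟩)
    (fun e => hn (congrArg Subtype.val e)) fun g hg x y ne e1 e2 z => Subtype.ext (h.fix _ (z.2
      (h.cent_plane hW hg x.2 y.2 (fun e => ne (Subtype.ext e)) (congrArg Subtype.val e1)
        (congrArg Subtype.val e2))))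
  have e' : (Fx N W).ncard = p ^ k := e
  rw [h.card_plane hm hW, hq] at e'
  obtain ⟨j, rfl⟩ : ∃ j, m = j + 1 := ⟨m - 1, by omega⟩
  have e2 : p ^ k = (j + 1) * (j * (j + 1) + 1) := by rw [← e', Nat.add_sub_cancel]; ring
  obtain ⟨i, -, hi⟩ := (Nat.dvd_prime_pow Nat.prime_two).1 (Dvd.intro _ hq.symm)
  have h2 : 2 ∣ j + 1 := hi ▸ dvd_pow_self 2 (by rintro rfl; omega)
  obtain rfl := (Nat.prime_dvd_prime_iff_eq Nat.prime_two hp).1
    (Nat.prime_two.dvd_of_dvd_pow (e2 ▸ h2.mul_right _))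
  obtain ⟨l, -, hl⟩ := (Nat.dvd_prime_pow Nat.prime_two).1 (Dvd.intro_left _ e2.symm)
  rcases l with _ | l
  · nlinarith
  · have := h2.mul_left j
    omega

variable (hV : V ∈ 𝒱 c) (hV' : V' ∈ 𝒱 c') (hW : W ∈ 𝒲 c) (hW' : W ≤ N c') (zV : z ∈ V)
  (zV' : z ∈ V') (zW : z ∈ W) (z1 : z ≠ 1) (ne : V' ≠ V)
include hV hV' hW hW' zV zV' zW z1 ne

theorem sep : ¬ V ⊓ W ≤ V' ⊓ W := fun hle => by
  have p := h.p c
  have p' := h.p c'
  have mW := h.mem_w hW hW'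
  have i := inc_of_mem zV zW z1
  have i' := inc_of_mem zV' zW z1
  have e := H91.eq_of_le_of_card_le hle (by rw [p.l.inf V hV W hW i, p'.l.inf V' hV' W mW i'])
  obtain ⟨u, hu, hu'⟩ := SetLike.not_le_iff_exists.1 (p'.not_le hV' mW)
  have h1 : (stabilizer G c').relIndex V ≤ m := hm c' V' hV' ▸ orb_le fun v hv => by
    have h2 : u⁻¹ * v⁻¹ * u * v ∈ ce W := mem_ce.2 fun w hw => by
      have a1 := p.comm_mem hV hW i hv hw
      have a2 := p'.comm_mem hV' mW i' hu hw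
      have h3 : u * (v * w * v⁻¹) * u⁻¹ = v * (u * w * u⁻¹) * v⁻¹ := by
        rw [conj_eq_comm v, conj_eq_comm u w, ← conj_mul, ← conj_mul, conj_eq_comm v w,
          conj_eq_comm u w, comm_of_sq (p'.l.sq V' hV') hu (e ▸ a1).1,
          comm_of_sq (p.l.sq V hV) hv (e ▸ a2).1, mul_inv_cancel_right, mul_inv_cancel_right,
          ← mul_assoc, ← mul_assoc, comm_of_sq (p.r.sq W hW) a1.2 a2.2]
      calc _ = u⁻¹ * v⁻¹ * (v * (u * w * u⁻¹) * v⁻¹) * u * v := by group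
        _ = _ := by rw [← h3]; group
    have h3 := h.ce_triv hm m2 hq hW h2 hW'
    rw [mul_smul, mul_smul, mul_smul, inv_smul_eq_iff, inv_smul_eq_iff,
      h.fix c' (p'.l.le V' hV' hu)] at h3
    exact by_contra fun h4 => hu' (h.mem_of_fix hV' mW i'
      (h.le_nm_smul (p.symm.le_nm hW hV (inc_symm i) hv) hW') h4 hu h3)
  have h2 := H91.card_mul_relIndex (inf_le_left : V ⊓ stabilizer G c' ≤ V)
  have h3 : V ⊓ stabilizer G c' = V ⊓ W := le_antisymm (fun v hv => ⟨hv.1, h.mem_of_fix hV hW i hW'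
    (fun e => ne (p'.eq_of_mem hV' (h.mem_v hV e) zV' zV z1)) hv.1 hv.2⟩)
    (inf_le_inf_left _ (hW'.trans (h.fix c')))
  rw [inf_relIndex_left, h3, p.l.inf V hV W hW i, p.l.card V hV] at h2
  rw [Nat.eq_of_mul_eq_mul_left (by positivity) h2, hq] at h1
  nlinarith

theorem small (hs : s ∈ V ⊓ nm V') (ht : t ∈ V ⊓ nm V') (s1 : s ∉ W) (t1 : t ∉ W) : s * t ∈ W := by
  by_contra st
  have p := h.p c
  have p' := h.p c'
  have mW := h.mem_w hW hW'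
  have i := inc_of_mem zV zW z1
  have i' := inc_of_mem zV' zW z1
  have hVW := p.symm.le_nm hW hV (inc_symm i)
  set Y := (V ⊓ W) ⊔ (V' ⊓ W) with hY
  have YW : Y ≤ W := sup_le inf_le_right inf_le_right
  have CY : St W (V' ⊓ W) ≤ nm Y := St_le_nm le_sup_right YW
  obtain ⟨w0, a1, a2⟩ := SetLike.not_le_iff_exists.1 (h.sep hm m2 hq hV hV' hW hW' zV zV' zW z1 ne)
  obtain ⟨w1, b1, b2⟩ : ∃ w ∈ W, w ∉ Y := SetLike.not_le_iff_exists.1 fun hle => by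
    have h1 := card_sup_mul (X := V ⊓ W) (Y := V' ⊓ W) fun x hx =>
      nm_inf (p'.le_nm hV' mW i' hx.2) (le_normalizer hx.2)
    rw [← hY, le_antisymm YW hle, p.r.card W hW, p.l.inf V hV W hW i, p'.l.inf V' hV' W mW i',
      mul_eq_left₀ (by positivity), card_eq_one] at h1
    exact inc_of_mem (mem_inf.2 ⟨zV, zW⟩) (mem_inf.2 ⟨zV', zW⟩) z1 h1
  obtain ⟨σ, c1, τ, c2, c3, c4, c5, c6⟩ := (p'.l.tor V' hV' W mW i').t1 w0 a1.2
    (fun e => a2 ⟨e, a1.2⟩) w1 b1 fun e => b2 (mem_sup_right ⟨e, b1⟩)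
  let B : G → Prop := fun g => (∀ d, V' ≤ N d → g ∈ N d) ∧ g ∈ nm V' ∧ g ∈ nm W
  have B1 : ∀ s ∈ V ⊓ nm V', ∀ g, B g → B (s * g * s⁻¹) := fun s hs g hg =>
    ⟨fun d hd => smul_inv_smul s d ▸ h.conj_N s (hg.1 _ (h.le_nm_smul (inv_mem hs.2) hd)),
      conj_mem (le_normalizer hs.2) hg.2.1, conj_mem (le_normalizer (hVW hs.1)) hg.2.2⟩
  have B2 : ∀ g k, B g → B k → ⁅g, k⁆ ∈ St W (V' ⊓ W) := fun g k hg hk => by
    have h1 := comm_mem_of_nm (le_normalizer hg.2.2) hk.2.2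
    exact mem_St.2 ⟨nm_inf (comm_mem_of_nm (le_normalizer hg.2.1) hk.2.1) h1, fun w hw =>
      ⟨(p'.l.tor V' hV' W mW i').t0 g ⟨⟨hg.1 _ (p'.l.le _ hV'), hg.2.1⟩, hg.2.2⟩ k
        ⟨⟨hk.1 _ (p'.l.le _ hV'), hk.2.1⟩, hk.2.2⟩ w hw, comm_mem_of_nm h1 hw⟩⟩
  have B3 : ∀ s ∈ V ⊓ nm V', s ∉ W → ∀ g, B g → g * (s * g * s⁻¹) ∈ nm Y := fun s hs hs' g hg => by
    have h1 := B1 s hs g hg
    have h2 := B2 g _ hg h1
    have e : ⁅g, s * g * s⁻¹⁆ = ⁅g * (s * g * s⁻¹), s⁆ := by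
      rw [commutatorElement_def, commutatorElement_def]
      calc _ = g * s * g * s⁻¹ * g⁻¹ * s * g⁻¹ * s⁻¹ := by group
        _ = g * s * g * s * g⁻¹ * s⁻¹ * g⁻¹ * s⁻¹ := by rw [inv_of_sq (p.l.sq V hV s hs.1)]
        _ = _ := by group
    rw [e] at h2
    have h3 := mul_mem hg.2.2 h1.2.2
    have h4 := mul_mem hg.2.1 h1.2.1
    generalize g * (s * g * s⁻¹) = k at h2 h3 h4
    refine mem_nm_of_cj_le ?_
    rw [hY, cj_sup, cj_eq (nm_inf h4 h3)]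
    refine sup_le ?_ le_sup_right
    rintro _ ⟨x, hx, rfl⟩
    obtain ⟨w, hw, rfl⟩ := p.comm_surj hV hW i hs.1 hs' hx
    change k * _ * k⁻¹ ∈ _
    rw [conj_comm, conj_eq_comm k s, comm_mul_left]
    exact mul_mem (conj_mem (CY h2) (mem_sup_left (p.comm_mem hV hW i hs.1 (conj_mem h3 hw))))
      (mem_sup_right ((mem_St.1 h2).2 _ (conj_mem h3 hw)))
  have B4 : ∀ σ ∈ N c' ⊓ nm V', σ * σ = 1 → ∀ d, V' ≤ N d → σ ∈ N d := fun σ h1 h2 d hd => by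
    by_cases h3 : σ = 1
    · exact h3 ▸ one_mem _
    obtain ⟨X, hX, h4⟩ := p'.r.cover σ h1.1 h2
    exact h.w_le hV' hX ((p'.l.norm V' hV' X hX σ h4 h3).1 h1.2) hd h4
  have hk : B (σ * τ) := ⟨fun d hd => mul_mem (B4 σ c1 c3 d hd) (B4 τ c2 c4 d hd),
    mul_mem c1.2 c2.2, c5⟩
  generalize σ * τ = k at hk c5 c6
  have h1 := B3 _ (mul_mem ht hs) (by rwa [comm_of_sq (p.l.sq V hV) ht.1 hs.1]) _ (B1 s hs k hk)
  have e1 : t * s * (s * k * s⁻¹) * (t * s)⁻¹ = t * k * t⁻¹ := by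
    calc _ = t * (s * s) * k * (s * s)⁻¹ * t⁻¹ := by group
      _ = _ := by rw [p.l.sq V hV s hs.1]; group
  rw [e1] at h1
  have h2 := mul_mem (mul_mem (B3 s hs s1 k hk) (B3 t ht t1 k hk)) (inv_mem h1)
  have h3 := CY (B2 _ _ (B1 s hs k hk) hk)
  have h4 : k ^ 2 ∈ nm Y := by
    have h5 : k⁻¹ ∈ nm (St W (V' ⊓ W)) := inv_mem (nm_St c5 (nm_inf hk.2.1 c5))
    have h6 := mul_mem h2 (inv_mem (CY (conj_mem h5 (B2 _ _ (B1 s hs k hk) hk))))
    convert h6 using 1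
    rw [commutatorElement_def, pow_two]; group
  have h5 := conj_mem h4 (mem_sup_left a1)
  exact b2 (Y.inv_mem_iff.1 ((Y.mul_mem_cancel_left h5).1 (mem_sup_right
    (mem_inf.2 ⟨c6, mul_mem (YW h5) (inv_mem b1)⟩))))

omit hV' hW' zV' ne in
theorem m_two : m = 2 := by
  let _ : MulAction G (Subgroup G) :=
    { smul := cj, one_smul := cj_one, mul_smul := fun g k X => (cj_cj g k X).symm }
  have p := h.p c
  have i := inc_of_mem zV zW z1
  have hVW := p.symm.le_nm hW hV (inc_symm i)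
  have h1 := h.card_spread hm hW zW z1
  rw [h.card_plane hm hW, ← Set.ncard_sdiff_singleton_add_one
    (s := {V | z ∈ V ∧ ∃ d, W ≤ N d ∧ V ∈ 𝒱 d}) (a := V) ⟨zV, c, p.r.le W hW, hV⟩, hq] at h1
  have h2 := orb_dvd (G := G) (A := V) (T := {V | z ∈ V ∧ ∃ d, W ≤ N d ∧ V ∈ 𝒱 d} \ {V})
    (k := 2 ^ (n - 1)) (fun v hv X ⟨⟨a1, d, a2, a3⟩, a4⟩ => ⟨⟨by
      have := conj_mem_cj v a1
      rwa [comm_of_sq (p.l.sq V hV) hv zV, mul_inv_cancel_right] at this,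
      v • d, h.le_nm_smul (hVW hv) a2, h.cv v d X a3⟩, fun e => a4 (by
        have e' : cj v X = V := e
        rw [← cj_inv v X, e']; exact cj_eq (inv_mem (le_normalizer hv)))⟩)
    fun X ⟨⟨a1, d, a2, a3⟩, a4⟩ => by
      have e : stabilizer G X = nm X := by ext g; exact mem_nm_iff.symm
      have h3 := H91.card_mul_relIndex (inf_le_left : V ⊓ nm X ≤ V)
      have h4 : Nat.card ↥(V ⊓ nm X) ≤ 2 * 2 ^ n := by
        rw [← p.l.inf V hV W hW i]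
        by_cases h4 : V ⊓ nm X ≤ W
        · exact (H91.card_le_of_le (le_inf inf_le_left h4)).trans (by omega)
        obtain ⟨s, hs, s1⟩ := SetLike.not_le_iff_exists.1 h4
        refine (H91.card_le_of_le fun t ht => ?_).trans (card_sup_zpowers_le (p := 2) (y := s)
          (nm_inf (le_normalizer hs.1) (hVW hs.1)) (by
            rw [pow_two, p.l.sq V hV s hs.1]; exact one_mem _))
        by_cases t1 : t ∈ W
        · exact mem_sup_left ⟨ht.1, t1⟩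
        · rw [← mul_inv_cancel_right t s]
          exact mul_mem (mem_sup_left ⟨mul_mem ht.1 hs.1, h.small hm m2 hq hV a3 hW a2 zV a1 zW z1
            a4 ht hs t1 s1⟩) (mem_sup_right (inv_mem (mem_zpowers s)))
      rw [inf_relIndex_left, p.l.card V hV, ← pow_add] at h3
      obtain ⟨j, -, hj⟩ := (Nat.dvd_prime_pow Nat.prime_two).1 (Dvd.intro_left _ h3)
      rw [e, hj]
      have h5 := Nat.mul_le_mul_right (2 ^ j) h4
      rw [← hj, h3, hj, ← pow_succ', ← pow_add, Nat.pow_le_pow_iff_right (by norm_num)] at h5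
      exact pow_dvd_pow 2 (by omega)
  generalize Set.ncard _ = r at h1 h2
  obtain ⟨j, rfl⟩ : ∃ j, m = j + 1 := ⟨m - 1, by omega⟩
  have h3 : r = j * (j + 1) := Nat.eq_of_mul_eq_mul_right (m := j + 1) (by omega) (by
    rw [Nat.add_sub_cancel] at h1; nlinarith)
  have h4 := Nat.mul_dvd_mul_left 2 h2
  rw [← pow_succ', Nat.sub_add_cancel p.pos, hq, h3, ← mul_assoc,
    Nat.mul_dvd_mul_iff_right (by omega)] at h4
  have h5 := Nat.le_of_dvd two_pos ((by simp : Nat.Coprime (j + 1) j).dvd_of_dvd_mul_right h4)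
  omega

end Geo

end Cfsg.Agent.H32.P3
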