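import Cfsg.Agent.H32.P3Fam

/-! An involution of `N a` fixing `b` lies in `N b`. -/

set_option autoImplicit false

namespace Cfsg.Agent.H32.P3

open Subgroup MulAction Cfsg.Agent.SR3 Cfsg.Agent.H92 Cfsg.Agent.H12
open scoped commutatorElement

variable {G Ω : Type*} [Group G] [Finite G]

omit [Finite G] in
theorem eq_of_card_two {X : Subgroup G} {x y : G} (h : Nat.card X = 2) (hx : x ∈ X) (hy : y ∈ X)
    (x1 : x ≠ 1) (y1 : y ≠ 1) : x = y := by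
  obtain ⟨z, -, hz⟩ := (Nat.card_eq_two_iff' (1 : X)).1 h
  exact congrArg Subtype.val ((hz ⟨x, hx⟩ fun e => x1 (congrArg Subtype.val e)).trans
    (hz ⟨y, hy⟩ fun e => y1 (congrArg Subtype.val e)).symm)

namespace Pl

variable {n : ℕ} {N V W : Subgroup G} {𝒱 𝒲 : Set (Subgroup G)} {t z : G} (h : Pl n N 𝒱 𝒲)
include h

theorem types (hV : V ∈ 𝒱) (hW : W ∈ 𝒲) (hi : V ⊓ W ≠ ⊥) (hN : t ∈ nm N) (ht : t ∈ nm (V ⊔ W)) :
    (t ∈ nm V ∧ t ∈ nm W) ∨ (cj t V = W ∧ cj t W = V) := by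
  have h1 : cj t V ≤ V ⊔ W := (cj_mono t le_sup_left).trans (cj_eq ht).le
  have h2 : cj t W ≤ V ⊔ W := (cj_mono t le_sup_right).trans (cj_eq ht).le
  by_cases h3 : cj t V ∈ 𝒱
  · exact Or.inl ⟨mem_nm_iff.2 (h.eq_of_le_sup hV hW hi h3 h1), mem_nm_iff.2
      (h.symm.eq_of_le_sup hW hV (inc_symm hi) ((h.pres hN hV h3).2 W hW) (sup_comm V W ▸ h2))⟩
  · exact Or.inr ⟨h.symm.eq_of_le_sup hW hV (inc_symm hi) ((h.swap hN hV h3).1 V hV)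
      (sup_comm V W ▸ h1), h.eq_of_le_sup hV hW hi ((h.swap hN hV h3).2 W hW) h2⟩

theorem mem_of_nm_flag (hV : V ∈ 𝒱) (hW : W ∈ 𝒲) (hi : V ⊓ W ≠ ⊥) (hz : z ∈ N) (h2 : z * z = 1)
    (h3 : z ∈ nm (V ⊔ W)) : z ∈ V ∨ z ∈ W :=
  h.mem_or_mem hV hW hi (h.mem_of_nm hV hW hi (sup_le (h.l.le V hV) (h.r.le W hW)) le_rfl hz h2 h3)
    h2

theorem card_two (hV : V ∈ 𝒱) (hW : W ∈ 𝒲) (hi : V ⊓ W ≠ ⊥)
    (h2 : ∀ x ∈ V, x ∉ W → ∀ y ∈ V, y ∉ W → x * y ∈ W) : 2 ^ n = 2 := by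
  obtain ⟨v, hv, hv'⟩ := SetLike.not_le_iff_exists.1 (h.not_le hV hW)
  have h1 := card_sup_zpowers_le (p := 2) (X := V ⊓ W) (y := v)
    (nm_inf (le_normalizer hv) (h.symm.le_nm hW hV (inc_symm hi) hv))
    (by rw [pow_two, h.l.sq V hV v hv]; exact one_mem _)
  have h3 : V ≤ (V ⊓ W) ⊔ zpowers v := fun x hx => by
    by_cases h4 : x ∈ W
    · exact mem_sup_left ⟨hx, h4⟩
    · rw [← mul_inv_cancel_right x v]
      exact mul_mem (mem_sup_left ⟨mul_mem hx hv, h2 x hx h4 v hv hv'⟩)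
        (mem_sup_right (inv_mem (mem_zpowers v)))
  have h4 := (H91.card_le_of_le h3).trans h1
  rw [h.l.card V hV, h.l.inf V hV W hW hi] at h4
  exact le_antisymm (Nat.le_of_mul_le_mul_right h4 (by positivity)) h.two_le

end Pl

namespace Fam

variable [MulAction G Ω] [Finite Ω] {n : ℕ} {N : Ω → Subgroup G} {a b c d : Ω} {g t v z : G}
  {S V W V' W' X : Subgroup G} {𝒱 𝒲 𝒱' 𝒲' : Set (Subgroup G)} (h : Fam n N)
include h

theorem le_of_uniq (E : ∀ c d, c ≠ d → ∀ x ∈ N c ⊓ N d, ∀ y ∈ N c ⊓ N d, x * x = 1 → y * y = 1 →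
    x ≠ 1 → y ≠ 1 → x = y) (hcd : c ≠ d) (p : Pl n (N c) 𝒱 𝒲) (hz : z ∈ N c ⊓ N d) (z1 : z ≠ 1)
    (hX : X ∈ 𝒱) (hzX : z ∈ X) : X ≤ stabilizer G d := by
  obtain ⟨V, hV, W, hW, i, e⟩ := h.flag' hcd p
  have z2 := p.l.sq X hX z hzX
  have h1 : z ∈ ce (V ⊔ W) := mem_ce.2 fun u hu => mul_inv_eq_iff_eq_mul.1 (E c d hcd _
    (conj_mem (nm_inf (le_normalizer (sup_le (p.l.le V hV) (p.r.le W hW) hu)) (h.nm_N (e hu))) hz)
    z hz (by rw [conj_mul, z2, mul_one, mul_inv_cancel]) z2 (by simpa using z1) z1)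
  obtain ⟨v, hv, hv'⟩ := SetLike.not_le_iff_exists.1 (p.not_le hV hW)
  have h2 : z ∈ V := (p.mem_of_nm_flag hV hW i hz.1 z2 (ce_le_nm le_rfl h1)).elim id fun h2 =>
    (p.comm_ne hV hW i hv h2 (mem_ce.1 h1 v (mem_sup_left hv))).resolve_left hv'
  exact p.eq_of_mem hX hV hzX h2 z1 ▸ le_sup_left.trans e

variable (hab : a ≠ b) (hS : SylIn 2 S (stabilizer G a ⊓ stabilizer G b)) (p : Pl n (N a) 𝒱 𝒲)
  (p' : Pl n (N b) 𝒱' 𝒲') (hV : V ∈ 𝒱) (hW : W ∈ 𝒲) (i : V ⊓ W ≠ ⊥) (e : S ⊓ N a = V ⊔ W)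
  (hV' : V' ∈ 𝒱') (hW' : W' ∈ 𝒲') (i' : V' ⊓ W' ≠ ⊥) (e' : S ⊓ N b = V' ⊔ W') (ht : t ∈ V')
  (ht' : t ∉ W')
include hS p p' hV hW i e hV' hW' i' e' ht ht'

theorem pres_mem (h1 : t ∈ nm V) (h2 : t ∈ nm W) : t ∈ N a := by
  have tS : t ∈ S ⊓ N b := e' ▸ mem_sup_left ht
  have t2 := p'.l.sq V' hV' t ht
  have key : ∀ u ∈ V ⊔ W, ⁅t, u⁆ * ⁅t, u⁆ = 1 → ⁅t, u⁆ ∈ V' := fun u hu h3 => by
    rw [← e] at hu
    have h4 : ⁅t, u⁆ ∈ V' ⊔ W' := e' ▸ comm_symm (comm_mem_of_nm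
      (nm_inf (le_normalizer hu.1) (h.nm_N (hS.le hu.1).2)) tS)
    refine (p'.mem_or_mem hV' hW' i' h4 h3).elim id fun h5 =>
      (p'.comm_ne hV' hW' i' ht h5 ?_).resolve_left ht'
    nth_rw 2 [← inv_of_sq h3]
    rw [commutatorElement_def, inv_of_sq t2]
    calc _ = (t * t) * u * t * u⁻¹ := by group
      _ = u * t⁻¹ * u⁻¹ * (t⁻¹ * t) := by rw [t2, inv_of_sq t2, t2]; group
      _ = _ := by group
  have k1 : ∀ v ∈ V, ⁅t, v⁆ ∈ V' := fun v hv =>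
    key v (mem_sup_left hv) (p.l.sq V hV _ (comm_mem_of_nm h1 hv))
  have k2 : ∀ w ∈ W, ⁅t, w⁆ ∈ V' := fun w hw =>
    key w (mem_sup_right hw) (p.r.sq W hW _ (comm_mem_of_nm h2 hw))
  have hU : V ⊔ W ≤ S ⊓ N a := e.ge
  have hN := h.nm_N (hS.le tS.1).1
  obtain ⟨u, hu, h3⟩ : ∃ u ∈ V ⊔ W, u⁻¹ * t ∈ ce (N a) := by
    by_cases h3 : ∀ w ∈ W, ⁅t, w⁆ ∈ V
    · exact p.flag_fix hV hW i hS.pgroup (hU.trans inf_le_left) tS.1 hN h1 h2 h3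
    push Not at h3
    obtain ⟨w, hw, h3⟩ := h3
    rw [sup_comm] at hU ⊢
    exact p.symm.flag_fix hW hV (inc_symm i) hS.pgroup (hU.trans inf_le_left) tS.1 hN h2 h1
      fun v hv => (p.comm_ne hV hW i (comm_mem_of_nm h1 hv) (comm_mem_of_nm h2 hw)
        (comm_of_sq (p'.l.sq V' hV') (k1 v hv) (k2 w hw))).resolve_right h3
  rw [← inv_mul_eq_one.1 (h.eq_one hS.pgroup (mul_mem (inv_mem (hU hu).1) tS.1) h3)]
  exact (hU hu).2

omit [Finite Ω] [Finite G] ht' in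
theorem swap_mem (h1 : cj t V = W) (h2 : cj t W = V) (hv : v ∈ V) (hv' : v ∉ W) :
    v * t * v⁻¹ ∈ W' := by
  have tS : t ∈ S ⊓ N b := e' ▸ mem_sup_left ht
  have t2 := p'.l.sq V' hV' t ht
  have vS : v ∈ S ⊓ N a := e ▸ mem_sup_left hv
  have h3 : v * t * v⁻¹ ∈ V' ⊔ W' :=
    e' ▸ conj_mem (nm_inf (le_normalizer vS.1) (h.nm_N (hS.le vS.1).2)) tS
  refine (p'.mem_or_mem hV' hW' i' h3 (by rw [conj_mul, t2, mul_one, mul_inv_cancel])).resolve_left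
    fun h4 => ?_
  have h5 := comm_of_sq (p'.l.sq V' hV') h4 ht
  have h6 : t * v * t⁻¹ ∈ W := h1 ▸ conj_mem_cj t hv
  rcases p.comm_ne hV hW i hv h6 (by
    rw [inv_of_sq (p.l.sq V hV v hv)] at h5
    rw [inv_of_sq t2, ← mul_assoc, ← mul_assoc, h5, mul_assoc t, mul_assoc t]) with h7 | h7
  · exact hv' h7
  · rw [← h2, mem_cj] at h7
    exact hv' (by simpa [mul_assoc] using h7)

include hab in
theorem swap_false (h1 : cj t V = W) (h2 : cj t W = V) : False := by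
  have tS : t ∈ S ⊓ N b := e' ▸ mem_sup_left ht
  have t2 := p'.l.sq V' hV' t ht
  have hU : V ⊔ W ≤ S ⊓ N a := e.ge
  have hWV := p.le_nm hV hW i
  have hVW := p.symm.le_nm hW hV (inc_symm i)
  have sw := fun v => h.swap_mem (v := v) hS p p' hV hW i e hV' hW' i' e' ht h1 h2
  have q2 : 2 ^ n = 2 := p.card_two hV hW i fun x hx hx' y hy hy' => by
    have h3 := mul_mem (sw x hx hx') (sw y hy hy')
    have h4 : t * (x⁻¹ * y) * t⁻¹ ∈ W := h1 ▸ conj_mem_cj t (mul_mem (inv_mem hx) hy)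
    have e1 : x * t * x⁻¹ * (y * t * y⁻¹) = x * (t * (x⁻¹ * y) * t⁻¹) * y⁻¹ := by
      rw [inv_of_sq t2]; group
    rw [e1] at h3
    rcases p.mem_or_mem hV hW i (mul_mem (mul_mem (mem_sup_left hx) (mem_sup_right h4))
      (mem_sup_left (inv_mem hy))) (p'.r.sq W' hW' _ h3) with h5 | h5
    · rw [mul_mem_cancel_right (inv_mem hy), mul_mem_cancel_left hx, ← h2, mem_cj,
        inv_of_sq (p.l.sq V hV x hx)] at h5
      simpa [mul_assoc] using h5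
    · have e2 : x * y = (x * (t * (x⁻¹ * y) * t⁻¹) * x⁻¹)⁻¹ * (x * (t * (x⁻¹ * y) * t⁻¹) * y⁻¹) := by
        nth_rw 1 [← inv_of_sq (p.l.sq V hV y hy)]; group
      exact e2 ▸ mul_mem (inv_mem (conj_mem (hVW hx) h4)) h5
  have k1 : ∀ v ∈ V, v ∈ N b → v ∈ W := fun v hv hb => by_contra fun hv' => by
    have h3 : v ∈ V' ⊔ W' := e' ▸ ⟨(hU (mem_sup_left hv)).1, hb⟩
    have h4 := conj_mem (inv_mem (sup_le (p'.symm.le_nm hW' hV' (inc_symm i')) le_normalizer h3))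
      (sw v hv hv')
    exact ht' (by simpa [mul_assoc] using h4)
  have k2 : ∀ w ∈ W, w ∈ N b → w ∈ V := fun w hw hb => by
    have h3 := k1 _ (h2 ▸ conj_mem_cj t hw) (conj_mem (le_normalizer tS.2) hb)
    rw [← h1, mem_cj] at h3
    simpa [mul_assoc] using h3
  have k3 : ∀ y ∈ N a ⊓ N b, y * y = 1 → y ∈ V ⊓ W := fun y hy y2 => by
    obtain ⟨g, hg, h3⟩ := (hS.inf_normal' (N := N a ⊓ N b) (inf_le_inf (h.fix a) (h.fix b))
      fun g hg => nm_inf (h.nm_N hg.1) (h.nm_N hg.2)).exists_conj (zpowers_le_of_mem hy)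
      (pg_zpowers y2)
    have h4 := h3 y (mem_zpowers y)
    have h5 : g * y * g⁻¹ ∈ V ⊓ W := (p.mem_or_mem hV hW i (e ▸ ⟨h4.1, h4.2.1⟩)
      (by rw [conj_mul, y2, mul_one, mul_inv_cancel])).elim (fun a => ⟨a, k1 _ a h4.2.2⟩)
      fun a => ⟨k2 _ a h4.2.2, a⟩
    have hg' : g⁻¹ ∈ N a ⊓ stabilizer G b := inv_mem ⟨hg.1, h.fix b hg.2⟩
    by_cases h6 : N a ⊓ stabilizer G b ≤ nm V
    · have h7 : y ∈ V := by simpa [mul_assoc] using conj_mem (h6 hg') h5.1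
      exact ⟨h7, k1 y h7 hy.2⟩
    · have h7 : y ∈ W := by
        simpa [mul_assoc] using conj_mem ((p.over1 hV hW i inf_le_left (fun h7 => h.moves hab
          (h7.trans inf_le_right)) (le_inf (hU.trans inf_le_right)
          (hU.trans (inf_le_left.trans (hS.le.trans inf_le_right)))) h6).1 hg') h5.2
      exact ⟨k2 y h7 hy.2, h7⟩
  have c2 : Nat.card ↥(V ⊓ W) = 2 := (p.l.inf V hV W hW i).trans q2
  have E : ∀ c d, c ≠ d → ∀ x ∈ N c ⊓ N d, ∀ y ∈ N c ⊓ N d, x * x = 1 → y * y = 1 →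
      x ≠ 1 → y ≠ 1 → x = y := fun c d hcd x hx y hy x2 y2 x1 y1 => by
    obtain ⟨g, rfl, rfl⟩ := h.t2.two hcd hab
    have := eq_of_card_two c2 (k3 _ ⟨h.conj_N g hx.1, h.conj_N g hx.2⟩
      (by rw [conj_mul, x2, mul_one, mul_inv_cancel])) (k3 _ ⟨h.conj_N g hy.1, h.conj_N g hy.2⟩
      (by rw [conj_mul, y2, mul_one, mul_inv_cancel])) (by simpa using x1) (by simpa using y1)
    simpa using this
  have E' : ∀ c d, c ≠ d → ∀ x ∈ N c ⊓ N d, x * x = 1 → x ≠ 1 → ∀ g : G, g • c = c → g • d = d →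
      g * x = x * g := fun c d hcd x hx x2 x1 g g1 g2 => mul_inv_eq_iff_eq_mul.1 (E c d hcd _
    (conj_mem (nm_inf (h.nm_N g1) (h.nm_N g2)) hx) x hx
    (by rw [conj_mul, x2, mul_one, mul_inv_cancel]) x2 (by simpa using x1) x1)
  obtain ⟨z, hz, z1, z2⟩ := h.inv_inter hab
  have zVW := k3 z hz z2
  have zV' : z ∈ V' := (p'.mem_or_mem hV' hW' i' (e' ▸ ⟨(hU (mem_sup_left zVW.1)).1, hz.2⟩)
    z2).elim id fun h3 => (p'.comm_ne hV' hW' i' ht h3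
      (E' a b hab z hz z2 z1 t (hS.le tS.1).1 (hS.le tS.1).2)).resolve_left ht'
  have t1 : t ≠ 1 := fun e => ht' (e ▸ one_mem _)
  have ta : t ∉ N a := fun h3 => p.l.nmem W (h1 ▸ p.l.conj V hV t h3) hW
  obtain ⟨m, hm, rfl⟩ := p'.isConj z hz.2 t tS.2 z2 t2 z1 t1
  have h3 := h.conj_N m hz.1
  have n1 : b ≠ m • a := fun e => hab (MulAction.injective m (e.symm.trans (h.fix b hm).symm))
  have n2 : a ≠ m • a := fun e => ta (e ▸ h3)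
  have h4 := h.le_of_uniq E n1 p' ⟨tS.2, h3⟩ t1 hV' ht zV'
  obtain ⟨y, hy, y1, y2⟩ := h.inv_inter n2
  have h5 := E' _ _ n2 y hy y2 y1 z (h.fix a hz.1) h4
  have h6 := E' _ _ n2 y hy y2 y1 _ (hS.le tS.1).1 (h.fix _ h3)
  have h7 : y ∈ V ⊓ W := by
    have e1 := conj_mem_cj (m * z * m⁻¹) (X := V) (x := y)
    have e2 := conj_mem_cj (m * z * m⁻¹) (X := W) (x := y)
    rw [h6, mul_inv_cancel_right, h1] at e1
    rw [h6, mul_inv_cancel_right, h2] at e2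
    exact (p.mem_of_nm_flag hV hW i hy.1 y2 (nm_sup
      (p.nm_of_comm hV (p.l.conj V hV y hy.1) zVW.1 z1 h5.symm)
      (p.symm.nm_of_comm hW (p.r.conj W hW y hy.1) zVW.2 z1 h5.symm))).elim
      (fun a => ⟨a, e1 a⟩) fun a => ⟨e2 a, a⟩
  rw [eq_of_card_two c2 h7 zVW y1 z1] at hy
  exact ta (by rw [E _ _ n1 _ ⟨tS.2, h3⟩ z ⟨hz.2, hy.2⟩ t2 z2 t1 z1]; exact hz.1)

omit ht ht' in
include hab in
theorem le_N : V' ≤ N a := le_of_compl (p'.not_le hV' hW') fun t ht ht' => by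
  have tS : t ∈ S ⊓ N b := e' ▸ mem_sup_left ht
  have hN := h.nm_N (hS.le tS.1).1
  rcases p.types hV hW i hN (e ▸ nm_inf (le_normalizer tS.1) hN) with h1 | h1
  · exact h.pres_mem hS p p' hV hW i e hV' hW' i' e' ht ht' h1.1 h1.2
  · exact (h.swap_false hab hS p p' hV hW i e hV' hW' i' e' ht ht' h1.1 h1.2).elim

omit hS p p' hV hW i e hV' hW' i' e' ht ht' in
theorem star (hz : z ∈ N b) (h2 : z * z = 1) (ha : z • a = a) : z ∈ N a := by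
  by_cases hab : a = b
  · exact hab ▸ hz
  obtain ⟨S, hS, hle⟩ := exists_sylIn_ge (H := stabilizer G a ⊓ stabilizer G b)
    (zpowers_le_of_mem ⟨ha, h.fix b hz⟩) (pg_zpowers h2)
  obtain ⟨𝒱, 𝒲, p⟩ := h.pl a
  obtain ⟨𝒱', 𝒲', p'⟩ := h.pl b
  obtain ⟨V, hV, W, hW, i, e⟩ := h.flag hab hS p
  obtain ⟨V', hV', W', hW', i', e'⟩ := h.flag (Ne.symm hab) (inf_comm (stabilizer G a) _ ▸ hS) p'
  exact sup_le (h.le_N hab hS p p' hV hW i e hV' hW' i' e')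
    (h.le_N hab hS p p'.symm hV hW i e hW' hV' (inc_symm i') (sup_comm V' W' ▸ e'))
    (e' ▸ ⟨hle (mem_zpowers z), hz⟩ : z ∈ V' ⊔ W')

end Fam

end Cfsg.Agent.H32.P3
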