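import Cfsg.Agent.SC6.Out
import Cfsg.Agent.SC6.LemA
import Cfsg.Agent.SC6.Known

/-!
Groups in which commuting elements of orders two and three generate a self-centralizing subgroup:
the centralizer of such an involution.
-/

set_option autoImplicit false
set_option linter.unusedSectionVars false

namespace Cfsg.Agent.H32.SD

open Cfsg Cfsg.Agent.H49 Cfsg.Agent.NO6 Cfsg.Agent.SC6 Subgroup

universe u

/-- Commuting elements of orders two and three generate their common centralizer. -/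
def H6 (G : Type*) [Group G] : Prop :=
  ∀ v y g : G, orderOf v = 2 → orderOf y = 3 → v * y = y * v → g * v = v * g →
    g * y = y * g → ∃ i j : ℕ, g = v ^ i * y ^ j

variable {G : Type u} [Group G] [Finite G] {v y g e u m : G}

theorem H6.cube (h : H6 G) (hv : orderOf v = 2) (c : g * v = v * g) (h3 : 3 ∣ orderOf g) :
    g ^ 3 ∈ zpowers v := by
  have hy : orderOf (g ^ (orderOf g / 3)) = 3 := orderOf_pow_orderOf_div (orderOf_pos g).ne' h3
  generalize hd : g ^ (orderOf g / 3) = y at hy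
  have c1 : Commute v y := hd ▸ Commute.pow_right c.symm _
  obtain ⟨i, j, e⟩ := h v y g hv hy c1 c (hd ▸ Commute.pow_right (Commute.refl g) _)
  rw [e, (c1.pow_pow i j).mul_pow, ← pow_mul y, mul_comm j, pow_mul, cube_of hy, one_pow, mul_one]
  exact pow_mem (pow_mem (mem_zpowers v) _) _

theorem H6.fix (h : H6 G) (hv : orderOf v = 2) (hy : orderOf y = 3) (c : v * y = y * v)
    (c1 : g * v = v * g) (c2 : g * y = y * g) (h3 : ¬ 3 ∣ orderOf g) : g = 1 ∨ g = v := by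
  obtain ⟨i, j, e⟩ := h v y g hv hy c c1 c2
  have c' : Commute (v ^ i) (y ^ j) := Commute.pow_pow c i j
  have h1 : g ^ 4 = y ^ j := by
    rw [e, c'.mul_pow, ← pow_mul v, show i * 4 = 2 * (i * 2) by ring, pow_mul, sq, sq_of hv, one_pow,
      one_mul, pow_succ, ← pow_mul y, mul_comm j, pow_mul, cube_of hy, one_pow, one_mul]
  have h2 : y ^ j = 1 := by
    by_contra k
    refine h3 ((orderOf_eq_prime (p := 3) ?_ k).symm.dvd.trans (h1 ▸ orderOf_pow_dvd 4))
    rw [← pow_mul, mul_comm, pow_mul, cube_of hy, one_pow]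
  rw [e, h2, mul_one]
  exact (mem_zp hv).1 (pow_mem (mem_zpowers v) i)

theorem H6.not23 (h : H6 G) : ¬ Has23 G := by
  rintro ⟨a, b, y, ha, hb, hab, hy, c1, c2, c3⟩
  rcases h.fix (g := b) ha hy c2 c1.symm c3 (by rw [hb]; decide) with e | e
  exacts [ne_of hb e, hab e.symm]

/-- The largest normal subgroup of `C(e)` of order prime to three. -/
def kk (e : G) : Subgroup G := piCoreOf {3}ᶜ 𝒞[e]

theorem kk_le (e : G) : kk e ≤ 𝒞[e] := piCoreOf_le _ _

theorem kk_comm (h : u ∈ kk e) : u * e = e * u := mem_cent1.1 (kk_le e h)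

theorem kk_norm (e : G) : 𝒞[e] ≤ 𝒩(kk e) := le_norm_piCoreOf _ _

theorem kk_conj (c : g * e = e * g) (h : u ∈ kk e) : g * u * g⁻¹ ∈ kk e :=
  conj_mem_of_norm (kk_norm e) (mem_cent1.2 c) h

theorem cj_kk (g e : G) : cj g (kk e) = kk (g * e * g⁻¹) := by
  rw [kk, cj_piCoreOf, cj_cent1, kk]

theorem kk_cj (g : G) (h : u ∈ kk e) : g * u * g⁻¹ ∈ kk (g * e * g⁻¹) :=
  cj_kk g e ▸ conj_mem_cj.2 h

theorem kk_card (e : G) : ¬ 3 ∣ Nat.card (kk e) := (isPi_compl_singleton pr3).1 (piCoreOf_pi _ _)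

theorem kk_n3 (h : u ∈ kk e) : ¬ 3 ∣ orderOf u := fun k =>
  kk_card e (k.trans (orderOf_dvd_natCard _ h))

theorem le_kk {N : Subgroup G} (h1 : N ≤ 𝒞[e]) (h2 : 𝒞[e] ≤ 𝒩(N)) (h3 : ¬ 3 ∣ Nat.card N) :
    N ≤ kk e := le_piCoreOf h1 h2 ((isPi_compl_singleton pr3).2 h3)

theorem self_kk (he : orderOf e = 2) : e ∈ kk e :=
  le_kk (zpowers_le.2 (self_mem_cent1 e)) (norm_zp he).ge (by rw [Nat.card_zpowers, he]; decide)
    (mem_zpowers e)

theorem not_kk (hm : orderOf m = 3) : m ∉ kk e := fun k => kk_n3 k hm.symm.dvd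

/-- An element inverting an element of order three of `C(e)` is not in `kk e`. -/
theorem not_kk_inv (hm : orderOf m = 3) (c : e * m = m * e) (hi : g * m * g⁻¹ = m⁻¹) :
    g ∉ kk e := fun k => by
  have h1 := mul_mem (kk_conj c.symm k) (inv_mem k)
  rw [show m * g * m⁻¹ * g⁻¹ = m * (g * m * g⁻¹)⁻¹ by group, hi, inv_inv] at h1
  have h2 := mul_mem h1 h1
  rw [show m * m * (m * m) = m ^ 3 * m by simp only [pow_three, mul_assoc], cube_of hm,
    one_mul] at h2
  exact not_kk hm h2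

theorem H6.kcube (h : H6 G) (he : orderOf e = 2) (hm : orderOf m = 3) (c : e * m = m * e)
    (hu : u ∈ kk e) : u * (m * u * m⁻¹) * (m⁻¹ * u * m) ∈ zpowers e := by
  have n1 : m ∈ 𝒩(kk e) := kk_norm e (mem_cent1.2 c.symm)
  have n2 : u * m ∈ 𝒩(kk e) := mul_mem (le_normalizer hu) n1
  have h1 : coset (kk e) ⟨u * m, n2⟩ = coset (kk e) ⟨m, n1⟩ := by
    rw [eq_comm, coset_eq_iff]
    exact mul_assoc m⁻¹ u m ▸ conj_mem_of_norm' le_rfl n1 hu
  have h2 : orderOf (coset (kk e) ⟨m, n1⟩) = 3 := orderOf_eq_prime (by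
    rw [← map_pow, coset_eq_one_iff, SubmonoidClass.coe_pow, cube_of hm]
    exact one_mem _) fun k => not_kk hm (coset_eq_one_iff.1 k)
  have h3 := h.cube (g := u * m) he (Commute.mul_left (kk_comm hu) c.symm) (by
    rw [← h2, ← h1, ← orderOf_mk (u * m) n2]
    exact orderOf_map_dvd _ _)
  have h4 : m⁻¹ = m * m := by
    rw [inv_eq_iff_mul_eq_one, ← pow_three, cube_of hm]
  convert h3 using 1
  calc _ = u * m * u * (m⁻¹ * m⁻¹) * u * m := by group
    _ = u * m * u * (m * m ^ 3) * u * m := by rw [h4]; simp only [pow_three, mul_assoc]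
    _ = _ := by rw [cube_of hm, mul_one]; simp only [pow_three, mul_assoc]

theorem H6.af (h : H6 G) (he : orderOf e = 2) (hm : orderOf m = 3) (c : e * m = m * e)
    (two : IsPGroup 2 (kk e)) : AF e m (kk e) :=
  ⟨two, he, hm, self_kk he, kk_le e, kk_norm e (mem_cent1.2 c.symm), c,
    fun _ ha k => h.fix he hm c (kk_comm ha) k (kk_n3 ha)⟩

/-- `C(e) / kk e` is isomorphic to `L`. -/
def Ty (e : G) (L : Type) [Group L] : Prop :=
  ∃ φ : 𝒞[e] →* L, Function.Surjective φ ∧ ∀ g, φ g = 1 ↔ (g : G) ∈ kk e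

theorem Ty.conj {L : Type} [Group L] (h : Ty e L) (g : G) : Ty (g * e * g⁻¹) L := by
  obtain ⟨φ, h1, h2⟩ := h
  let f := (cjEquiv g 𝒞[e]).trans (MulEquiv.subgroupCongr (cj_cent1 g e))
  refine ⟨φ.comp f.symm.toMonoidHom, h1.comp f.symm.surjective, fun k => ?_⟩
  obtain ⟨k, rfl⟩ := f.surjective k
  rw [← cj_kk]
  exact (by simpa using h2 k : _ ↔ _).trans conj_mem_cj.symm

theorem ty_of {L : Type} [Group L] [Finite L] (hL : ∀ K : Subgroup L, K.Normal → K ≠ ⊥ → 3 ∣ Nat.card K)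
    {H : Subgroup G} (hH : H = 𝒞[e]) (φ : H →* L) (hφ : Function.Surjective φ) {N : Subgroup G}
    (hN : N ≤ H) (h3 : ¬ 3 ∣ Nat.card N) (hk : ∀ g, φ g = 1 ↔ (g : G) ∈ N) :
    Ty e L ∧ kk e = N := by
  subst hH
  have h1 : kk e = N := by
    refine le_antisymm (fun u hu => ?_) (le_kk hN (le_norm_iff.2 fun a ha x hx => ?_) h3)
    · have := normal_subgroupOf (kk_norm e)
      by_contra k
      refine kk_card e ((hL (((kk e).subgroupOf 𝒞[e]).map φ) (Normal.map this φ hφ) fun k' => k ?_).trans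
        ((card_map_dvd _ φ).trans (Nat.card_congr (subgroupOfEquivOfLe (kk_le e)).toEquiv).dvd))
      exact (hk ⟨u, kk_le e hu⟩).1 (mem_bot.1 (k' ▸ mem_map_of_mem φ hu))
    · refine (hk (⟨a, ha⟩ * ⟨x, hN hx⟩ * ⟨a, ha⟩⁻¹)).1 ?_
      rw [map_mul, map_mul, (hk ⟨x, hN hx⟩).2 hx, map_inv, mul_one, mul_inv_cancel]
  exact ⟨⟨φ, hφ, h1 ▸ hk⟩, h1⟩

theorem three_simple {L : Type} [Group L] [Finite L] [IsSimpleGroup L] (h : 3 ∣ Nat.card L)
    (K : Subgroup L) (hK : K.Normal) (h0 : K ≠ ⊥) : 3 ∣ Nat.card K := by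
  rwa [hK.eq_bot_or_eq_top.resolve_left h0, card_top]

theorem H6.out (h : H6 G) (he : orderOf e = 2) (hm : orderOf m = 3) (c : e * m = m * e)
    (c' : g * e = e * g) (hi : g * m * g⁻¹ = m⁻¹) :
    (Ty e (Equiv.Perm (Fin 3)) ∧ Group.IsNilpotent (quo (kk e) (zpowers e))) ∨
    (Ty e (alternatingGroup (Fin 5)) ∧ (∀ a ∈ kk e, a * a ∈ zpowers e) ∧
      ∀ a ∈ kk e, ∀ b ∈ kk e, a * b * a⁻¹ * b⁻¹ ∈ zpowers e) ∨
    (∃ φ : 𝒞[e] →* Matrix.ProjectiveSpecialLinearGroup (Fin 2) (ZMod 7),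
      Function.Surjective φ ∧ ∀ g, φ g = 1 ↔ (g : G) ∈ zpowers e) := by
  have mN : m ∈ 𝒩(zpowers e) := (norm_zp he).ge (mem_cent1.2 c.symm)
  have gN : g ∈ 𝒩(zpowers e) := (norm_zp he).ge (mem_cent1.2 c')
  have ox : orderOf (coset _ ⟨m, mN⟩) = 3 := orderOf_eq_prime (by
    rw [← map_pow, coset_eq_one_iff, SubmonoidClass.coe_pow, cube_of hm]
    exact one_mem _) fun k => not_mem_two (zp_two he) hm (coset_eq_one_iff.1 k)
  have sc : 𝒞(zpowers (coset _ ⟨m, mN⟩)) = zpowers (coset _ ⟨m, mN⟩) := by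
    refine le_antisymm (fun n hn => ?_) (le_centralizer _)
    obtain ⟨n, rfl⟩ := coset_surjective _ n
    have h1 : (n : G) * m * (n : G)⁻¹ * m⁻¹ ∈ zpowers e :=
      coset_comm_iff.1 (hn _ (mem_zpowers _)).symm
    have h2 : (n : G) * m = m * n := by
      rcases (mem_zp he).1 h1 with k | k
      · exact mul_inv_eq_iff_eq_mul.1 (mul_inv_eq_one.1 k)
      · have k1 : (e * m) ^ 3 = 1 := by
          rw [← mul_inv_eq_iff_eq_mul.1 k, conj_pow, cube_of hm]; group
        rw [Commute.mul_pow c, cube_of hm, mul_one, pow_three, sq_of he, mul_one] at k1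
        exact absurd k1 (ne_of he)
    obtain ⟨i, j, k⟩ := h e m n he hm c (mem_cent1.1 ((norm_zp he).le n.2)) h2
    have : coset _ n = coset _ ⟨m, mN⟩ ^ j := by
      rw [← map_pow, eq_comm, coset_eq_iff]
      show (m ^ j)⁻¹ * n ∈ _
      rw [k, ← mul_assoc]
      exact conj_mem_of_norm' le_rfl (pow_mem mN j) (pow_mem (mem_zpowers e) i)
    exact this ▸ pow_mem (mem_zpowers _) j
  have n3 : ∀ B : Subgroup (Quo (zpowers e)), ¬ 3 ∣ Nat.card B → ¬ 3 ∣ Nat.card (quoPre _ B) :=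
    fun B hB k => by
      rw [card_quoPre, Nat.card_zpowers, he] at k
      exact hB ((Nat.Coprime.dvd_mul_left (by decide)).1 k)
  rcases S3331.result _ (by rw [Nat.card_zpowers, ox]) sc with
    ⟨B, hB, nil, cop, hq⟩ | ⟨B, hB, ab, ex, ⟨f⟩⟩ | ⟨⟨f⟩⟩
  · have b3 := (Nat.Prime.coprime_iff_not_dvd pr3).1 cop.symm
    rcases hq with hq | ⟨⟨f⟩⟩
    · exfalso
      have : Fact (Nat.Prime 3) := ⟨pr3⟩
      have hc := (isCyclic_of_prime_card hq).isMulCommutative
      let ψ := (QuotientGroup.mk' B).comp (coset (zpowers e))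
      have h1 : ψ ⟨m, mN⟩⁻¹ = ψ ⟨m, mN⟩ := by
        rw [show (⟨m, mN⟩⁻¹ : 𝒩(zpowers e)) = ⟨g, gN⟩ * ⟨m, mN⟩ * ⟨g, gN⟩⁻¹ from Subtype.ext hi.symm,
          map_mul, map_mul, map_inv, hc.is_comm.comm (ψ ⟨g, gN⟩), mul_inv_cancel_right]
      have h2 : coset _ ⟨m, mN⟩ * coset _ ⟨m, mN⟩ ∈ B := by
        rw [← QuotientGroup.eq_one_iff, QuotientGroup.mk_mul]
        rw [map_inv] at h1
        exact inv_eq_iff_mul_eq_one.1 h1
      have h3 := mul_mem h2 h2
      rw [show ∀ a : Quo (zpowers e), a * a * (a * a) = a ^ 3 * a from fun a => by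
        simp only [pow_three, mul_assoc], cube_of ox, one_mul] at h3
      exact b3 (ox.symm.dvd.trans (orderOf_dvd_natCard _ h3))
    · obtain ⟨k1, k2⟩ := ty_of three_dvd_of_normal_s3 (norm_zp he)
        (f.toMonoidHom.comp ((QuotientGroup.mk' B).comp (coset _)))
        (f.surjective.comp ((QuotientGroup.mk'_surjective B).comp (coset_surjective _)))
        (quoPre_le_norm B) (n3 B b3) fun g => (ker_comp _ B f g).trans coe_mem_quoPre.symm
      exact Or.inl ⟨k1, by rwa [k2, quo_quoPre]⟩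
  · have b2 : IsPGroup 2 B := fun a => ⟨1, Subtype.ext (ex a a.2)⟩
    obtain ⟨k1, k2⟩ := ty_of (three_simple (by rw [card_a5]; decide)) (norm_zp he)
        (f.toMonoidHom.comp ((QuotientGroup.mk' B).comp (coset _)))
        (f.surjective.comp ((QuotientGroup.mk'_surjective B).comp (coset_surjective _)))
        (quoPre_le_norm B) (n3 B fun k => absurd (isPi_of_isPGroup pr2 b2 3 pr3 k) (by decide))
        fun g => (ker_comp _ B f g).trans coe_mem_quoPre.symm
    refine Or.inr (Or.inl ⟨k1, fun a ha => ?_, fun a ha b hb => ?_⟩) <;> rw [k2] at *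
    · obtain ⟨a1, a2⟩ := mem_quoPre.1 ha
      have := ex _ a2
      rwa [← map_pow, coset_eq_one_iff, sq] at this
    · obtain ⟨a1, a2⟩ := mem_quoPre.1 ha
      obtain ⟨b1, b2⟩ := mem_quoPre.1 hb
      exact coset_comm_iff.1 (congrArg Subtype.val (ab.is_comm.comm ⟨_, a2⟩ ⟨_, b2⟩))
  · refine Or.inr (Or.inr ?_)
    rw [← norm_zp he]
    exact ⟨f.toMonoidHom.comp (coset _), f.surjective.comp (coset_surjective _),
      fun g => by simp [coset_eq_one_iff]⟩

end Cfsg.Agent.H32.SD
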