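import Cfsg.Agent.H32.SdBase
import Cfsg.Agent.H76.T9Top
import Cfsg.Agent.SC6.B1

/-!
A self-centralizing elementary subgroup `M = ⟨x, y⟩` of order nine with a four-group `⟨s, p⟩`
acting diagonally: the intersection of the two cores `kk s` and `kk p`.
-/

set_option autoImplicit false
set_option linter.unusedSectionVars false

namespace Cfsg.Agent.H32.SD

open Cfsg Cfsg.Agent.H49 Cfsg.Agent.NO6 Cfsg.Agent.SC6 Cfsg.Agent.H76 Subgroup

universe u

variable {G : Type u} [Group G] [Finite G] {M W : Subgroup G} {x y s p u e m : G}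

set_option synthInstance.maxSize 2000 in
set_option synthInstance.maxHeartbeats 200000 in
theorem six_mat : ∀ A : V × V, act A (1, 0) = (1, 0) → (∀ v, act A (act A v) = v) →
    ¬ (∀ v, act A v = v) → (∀ v, act A v = v → v.2 = 0) ∧ ∀ B : V × V, act B (1, 0) = (1, 0) →
    (∀ v, act A (act B v) = act B (act A v)) → (∀ v, act B v = 0 → v = 0) →
    (∀ v, act B v = v) ∨ ∀ v, act B (act A v) = v := by
  decide +kernel

theorem six (h : E3 M) (h9 : Nat.card M = 9) : H6 G := by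
  have key : ∀ v y g : G, y ∈ M → orderOf v = 2 → orderOf y = 3 → v * y = y * v → g * v = v * g →
      g * y = y * g → ∃ i j : ℕ, g = v ^ i * y ^ j := fun v y g hM hv hy c c1 c2 => by
    have y1 : y ≠ 1 := fun k => by simp [k] at hy
    obtain ⟨b, f⟩ := exists_fr h h9 hM y1
    obtain ⟨A, hA⟩ := f.exists_act (h.loc y hM y1 (mem_cent1.2 c))
    obtain ⟨B, hB⟩ := f.exists_act (h.loc y hM y1 (mem_cent1.2 c2))
    obtain ⟨k1, k2⟩ := six_mat A (f.inj (by rw [← hA, Fr.e1, c, mul_inv_cancel_right]))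
      ((f.mem_iff (act_mul hA hA)).1 (sq_of hv ▸ one_mem M))
      fun k => h.not_mem hv ((f.mem_iff hA).2 k)
    have k3 : ∀ k ∈ M, k * v = v * k → ∃ j : ℕ, k = y ^ j := fun k hk ck => by
      obtain ⟨w, rfl⟩ := f.surj hk
      exact ⟨w.1.val, by
        rw [ph, k1 w (f.inj (by rw [← hA, ← ck, mul_inv_cancel_right]))]
        simp⟩
    rcases k2 B (f.inj (by rw [← hB, Fr.e1, c2, mul_inv_cancel_right]))
      (fun w => f.inj (by rw [← act_mul hA hB, ← act_mul hB hA, c1])) (fun w hw => by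
        have := hB w
        rw [hw, Fr.zero] at this
        exact f.eq_one (by simpa using this)) with k | k
    · obtain ⟨j, hj⟩ := k3 g ((f.mem_iff hB).2 k) c1
      exact ⟨0, j, by rw [hj, pow_zero, one_mul]⟩
    · obtain ⟨j, hj⟩ := k3 _ ((f.mem_iff (act_mul hB hA)).2 k) (by rw [← mul_assoc v, ← c1])
      exact ⟨1, j, by rw [← hj, pow_one, c1, ← mul_assoc, sq_of hv, one_mul]⟩
  intro v y g hv hy c c1 c2
  obtain ⟨k, hk⟩ := h.exists_conj_mem hy
  obtain ⟨i, j, e⟩ := key (k * v * k⁻¹) _ (k * g * k⁻¹) hk ((MulAut.conj k).orderOf_eq v ▸ hv)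
    ((MulAut.conj k).orderOf_eq y ▸ hy) (by rw [conj_mul, conj_mul, c])
    (by rw [conj_mul, conj_mul, c1]) (by rw [conj_mul, conj_mul, c2])
  rw [conj_pow, conj_pow, conj_mul] at e
  exact ⟨i, j, (MulAut.conj k).injective e⟩

/-- `M` normalizes no nontrivial subgroup of order prime to three. -/
theorem nb (f : Fr M x y) (hn : M ≤ 𝒩(W)) (h3 : ¬ 3 ∣ Nat.card W) : W = ⊥ := by
  have : Fact (Nat.Prime 3) := ⟨pr3⟩
  have h := f.e3
  have k : ∀ g ∈ W, g ∈ M → g = 1 := fun g h1 h2 => by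
    by_contra k
    exact h3 ((h.orderOf_eq h2 k).symm.dvd.trans (orderOf_dvd_natCard _ h1))
  refine le_bot_iff.1 (H46.le_of_forall_element (p := 3) h.isPGroup
    ⟨⟨fun a b => Subtype.ext (h.comm a.2 b.2).eq⟩⟩ f.not_isCyclic h3 hn fun a ha h1 g hg => ?_)
  refine k g hg.1 (h.mem_of_comm fun t ht => mul_inv_eq_one.1 (k _ ?_ ?_))
  · simpa only [mul_assoc] using W.mul_mem hg.1 (conj_mem_of_norm hn ht (W.inv_mem hg.1))
  · exact mul_mem (h.conj_mem (h.loc a ha h1 hg.2) ht) (inv_mem ht)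

theorem tr_cube (hx : x ^ 3 = 1) (u : G) : tr x u = (u * x) ^ 3 := by
  have h4 : x⁻¹ = x * x := by rw [inv_eq_iff_mul_eq_one, ← pow_three, hx]
  calc _ = u * x * u * (x⁻¹ * x⁻¹) * u * x := by rw [tr]; group
    _ = u * x * u * (x * x ^ 3) * u * x := by rw [h4]; simp only [pow_three, mul_assoc]
    _ = _ := by rw [hx, mul_one]; simp only [pow_three, mul_assoc]

theorem conj_comm (g : G) {a b : G} (h : a * b = b * a) :
    g * a * g⁻¹ * (g * b * g⁻¹) = g * b * g⁻¹ * (g * a * g⁻¹) := by rw [conj_mul, conj_mul, h]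

theorem cc3 (hx : x ^ 3 = 1) (u : G) : x * (x * u * x⁻¹) * x⁻¹ = x⁻¹ * u * x := by
  have h4 : x⁻¹ = x * x := by rw [inv_eq_iff_mul_eq_one, ← pow_three, hx]
  calc _ = (x * x) * u * (x * x)⁻¹ := by group
    _ = _ := by rw [← h4, inv_inv]

/-- If an element inverting `x` fixes `u` and its trace then the conjugates of `u` commute. -/
theorem tri_comm (hx : x ^ 3 = 1) (px : p * x * p⁻¹ = x⁻¹) (pu : p * u * p⁻¹ = u)
    (pt : p * tr x u * p⁻¹ = tr x u) : u * (x * u * x⁻¹) = x * u * x⁻¹ * u := by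
  have h1 : p * tr x u * p⁻¹ = u * (x⁻¹ * u * x) * (x * u * x⁻¹) := by
    calc _ = p * u * p⁻¹ * (p * x * p⁻¹ * (p * u * p⁻¹) * (p * x * p⁻¹)⁻¹) *
          ((p * x * p⁻¹)⁻¹ * (p * u * p⁻¹) * (p * x * p⁻¹)) := by rw [tr]; group
      _ = _ := by rw [pu, px, inv_inv]
  rw [pt, tr, mul_assoc, mul_assoc u, mul_right_inj] at h1
  have h2 := conj_comm x⁻¹ h1
  rwa [show x⁻¹ * (x * u * x⁻¹) * x⁻¹⁻¹ = u by group, show x⁻¹ * (x⁻¹ * u * x) * x⁻¹⁻¹ =
    x⁻¹ * (x⁻¹ * u * x⁻¹⁻¹) * x⁻¹⁻¹ by group, cc3 (by rw [inv_pow, hx, inv_one]), inv_inv] at h2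

omit [Finite G] in
theorem grid_aux (α β : G ≃* G) (c : ∀ w, α (β w) = β (α w)) (c1 : u * α u = α u * u)
    (c2 : u * β u = β u * u) (e1 : α.symm u = (u * α u)⁻¹) (e2 : β.symm u = (u * β u)⁻¹) :
    u * α (β u) = α (β u) * u ∧ α u * β u = β u * α u := by
  have s1 : ∀ w, α.symm (β w) = β (α.symm w) := fun w => α.injective (by simp [c])
  have s2 : ∀ w, β.symm (α w) = α (β.symm w) := fun w => β.injective (by simp [← c])
  have s3 : α.symm (β.symm u) = β.symm (α.symm u) := β.injective (by simp [← s1])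
  have BD := congrArg α c2
  have CD := congrArg β c1
  have r1 := congrArg α.symm c2
  have r2 := congrArg β.symm c1
  rw [e1, e2] at s3
  simp only [map_mul, map_inv, s1, s2, e1, e2, ← c] at BD CD r1 r2 s3
  generalize α (β u) = D at *
  generalize α u = B at *
  generalize β u = C at *
  simp only [← mul_inv_rev, inv_inj] at r1 r2 s3
  have k1 : u * (B * C) * D = u * (C * B) * D := by
    simpa only [mul_assoc] using r1.symm.trans (s3.trans r2)
  have k2 : B * (u * D) * C = B * (D * u) * C := by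
    calc _ = (B * u) * (D * C) := by group
      _ = _ := by rw [← c1, ← CD, ← r1, s3]; group
  exact ⟨mul_left_cancel (mul_right_cancel k2), mul_left_cancel (mul_right_cancel k1)⟩

theorem grid (f : Fr M x y) (h3 : ¬ 3 ∣ orderOf u) (c1 : u * (x * u * x⁻¹) = x * u * x⁻¹ * u)
    (c2 : u * (y * u * y⁻¹) = y * u * y⁻¹ * u) (t1 : tr x u = 1) (t2 : tr y u = 1) : u = 1 := by
  have h := f.e3
  have xy : x * y = y * x := h.comm f.ha f.hb
  have P : ∀ g : G, u * (g * u * g⁻¹) = g * u * g⁻¹ * u → u * (g⁻¹ * u * g⁻¹⁻¹) = g⁻¹ * u * g⁻¹⁻¹ * u :=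
    fun g k => by simpa [mul_assoc] using (conj_comm g⁻¹ k).symm
  have xy'' : y⁻¹ * x = x * y⁻¹ := (Commute.inv_left xy.symm :)
  have g2 : (x * y⁻¹) * u * (x * y⁻¹)⁻¹ = y⁻¹ * (x * u * x⁻¹) * y⁻¹⁻¹ := by rw [← xy'']; group
  have key := grid_aux (MulAut.conj x) (MulAut.conj y) (fun w => by
      rw [← MulAut.mul_apply, ← map_mul, xy, map_mul, MulAut.mul_apply]) c1 c2
    (inv_eq_of_mul_eq_one_right t1).symm (inv_eq_of_mul_eq_one_right t2).symm
  rw [← MulAut.mul_apply, ← map_mul] at key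
  have k2 : u * ((x * y⁻¹) * u * (x * y⁻¹)⁻¹) = (x * y⁻¹) * u * (x * y⁻¹)⁻¹ * u := by
    have := conj_comm y⁻¹ (a := x * u * x⁻¹) (b := y * u * y⁻¹) key.2
    rw [← g2, show y⁻¹ * (y * u * y⁻¹) * y⁻¹⁻¹ = u by group] at this
    exact this.symm
  have all : ∀ g ∈ M, u * (g * u * g⁻¹) = g * u * g⁻¹ * u := fun g hg => by
    obtain ⟨v, rfl⟩ := f.surj hg
    have k3 : ∀ v ∈ [(0 : V), (1, 0), (0, 1), (1, 1), (1, 0) + -(0, 1)],
        u * (ph x y v * u * (ph x y v)⁻¹) = ph x y v * u * (ph x y v)⁻¹ * u := by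
      simp only [List.forall_mem_cons, List.not_mem_nil, f.add, f.neg, Fr.zero, Fr.e1, Fr.e2, Fr.e12]
      exact ⟨by simp, c1, c2, key.1, k2, fun _ k => k.elim⟩
    rcases (by decide : ∀ v : V, v ∈ [(0 : V), (1, 0), (0, 1), (1, 1), (1, 0) + -(0, 1)] ∨
      -v ∈ [(0 : V), (1, 0), (0, 1), (1, 1), (1, 0) + -(0, 1)]) v with k | k
    · exact k3 v k
    · have := P _ (k3 _ k)
      rwa [f.neg, inv_inv] at this
  let S : Set G := {w | ∃ g ∈ M, w = g * u * g⁻¹}
  have ab := isMulCommutative_closure (k := S) (by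
    rintro _ ⟨g, hg, rfl⟩ _ ⟨k, hk, rfl⟩
    have := conj_comm g (all _ (mul_mem (inv_mem hg) hk))
    rwa [show g * (g⁻¹ * k * u * (g⁻¹ * k)⁻¹) * g⁻¹ = k * u * k⁻¹ by group] at this)
  have ex : ∀ w ∈ closure S, w ^ orderOf u = 1 := fun w hw => by
    induction hw using closure_induction with
    | mem w hw => obtain ⟨g, -, rfl⟩ := hw; rw [conj_pow, pow_orderOf_eq_one]; simp
    | one => exact one_pow _
    | mul a b ha hb k1 k2 =>
      rw [Commute.mul_pow (congrArg Subtype.val (ab.is_comm.comm ⟨a, ha⟩ ⟨b, hb⟩)), k1, k2, one_mul]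
    | inv a _ k => rw [inv_pow, k, inv_one]
  have := nb f (W := closure S) (le_norm_iff.2 fun g hg w hw => by
    induction hw using closure_induction with
    | mem w hw =>
      obtain ⟨k, hk, rfl⟩ := hw
      exact subset_closure ⟨g * k, mul_mem hg hk, by group⟩
    | one => simp
    | mul a b _ _ k1 k2 => rw [← conj_mul]; exact mul_mem k1 k2
    | inv a _ k => rw [← conj_inv]; exact inv_mem k) fun k => by
      obtain ⟨w, hw, k⟩ := exists_orderOf_eq_of_dvd_card pr3 k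
      exact h3 (k ▸ orderOf_dvd_of_pow_eq_one (ex w hw))
  exact mem_bot.1 (this ▸ subset_closure ⟨1, one_mem M, by simp⟩)

omit [Finite G] in
theorem braid {a b : G} (ha : a * a = 1) (hb : b * b = 1) (h : (a * b) ^ 3 = 1) :
    a * b * a = b * a * b := by
  calc a * b * a = (a * b) ^ 3 * (b⁻¹ * a⁻¹ * b⁻¹) := by rw [pow_three]; group
    _ = _ := by rw [h, one_mul, inv_eq_of_mul_eq_one_right ha, inv_eq_of_mul_eq_one_right hb]

omit [Finite G] in
theorem cox4 {a b c : G} (ha : a * a = 1) (hb : b * b = 1) (hc : c * c = 1) (ab : a * b = b * a)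
    (h1 : (a * c) ^ 3 = 1) (h2 : (b * c) ^ 3 = 1) (h3 : (a * b * c) ^ 3 = 1) : a * b = c := by
  have k1 : (a * b * c) ^ 2 = a * c * (b * a) * c * a := by
    calc _ = a * b * c * (a * b) * c := by rw [sq]; group
      _ = a * b * c * (b * a) * c := by rw [ab]
      _ = a * (b * c * b) * a * c := by group
      _ = a * c * b * (c * a * c) := by rw [braid hb hc h2]; group
      _ = _ := by rw [← braid ha hc h1]; group
  have k2 : (a * b * c) ^ 4 = 1 := by
    calc _ = a * c * (b * a) * (c * (a * a) * c) * (b * a) * c * a := by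
          rw [show 4 = 2 + 2 from rfl, pow_add, k1]; group
      _ = a * (c * (b * (a * b) * a) * c) * a := by rw [ha, mul_one, hc]; group
      _ = 1 := by rw [ab, ← mul_assoc b, hb, one_mul, ha, mul_one, hc, mul_one, ha]
  rw [pow_succ, h3, one_mul] at k2
  rw [eq_inv_of_mul_eq_one_left k2, inv_eq_of_mul_eq_one_right hc]

/-- The diagonal action of the four-group `⟨s, p⟩` on `M = ⟨x, y⟩`. -/
structure C0 (M : Subgroup G) (x y s p : G) : Prop where
  fr : Fr M x y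
  os : orderOf s = 2
  op : orderOf p = 2
  sp : s * p = p * s
  sx : s * x = x * s
  sy : s * y * s⁻¹ = y⁻¹
  py : p * y = y * p
  px : p * x * p⁻¹ = x⁻¹

namespace C0

variable (h : C0 M x y s p)
include h

theorem symm : C0 M y x p s :=
  ⟨⟨h.fr.e3, h.fr.card, h.fr.hb, h.fr.ha, h.fr.b1, h.fr.a1, h.fr.ba.symm,
    fun k => h.fr.ba' (by rw [k, inv_inv])⟩, h.op, h.os, h.sp.symm, h.py, h.px, h.sx, h.sy⟩

theorem h6 : H6 G := six h.fr.e3 h.fr.card

theorem ox : orderOf x = 3 := h.fr.e3.orderOf_eq h.fr.ha h.fr.a1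

theorem x3 : x ^ 3 = 1 := cube_of h.ox

theorem xy : x * y = y * x := h.fr.e3.comm h.fr.ha h.fr.hb

theorem oxy : orderOf (x * y) = 3 := h.fr.e3.orderOf_eq (mul_mem h.fr.ha h.fr.hb) fun k =>
  h.fr.ba' (eq_inv_of_mul_eq_one_right k)

theorem p0 : p ∉ kk s := not_kk_inv h.ox h.sx h.px

theorem tr_mem (hu : u ∈ kk s) : tr x u = 1 ∨ tr x u = s :=
  (mem_zp h.os).1 (h.h6.kcube h.os h.ox h.sx hu)

theorem cm (hu : u ∈ kk s) (hu' : u ∈ kk p) : u * (x * u * x⁻¹) = x * u * x⁻¹ * u :=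
  tri_comm h.x3 h.px (by rw [← kk_comm hu', mul_inv_cancel_right]) (by
    rcases h.tr_mem hu with k | k <;> rw [k]
    · simp
    · rw [← h.sp, mul_inv_cancel_right])

theorem tr_sq (hu : u ∈ kk s) (hu' : u ∈ kk p) : tr x (u * u) = 1 := by
  have c1 : Commute u (x * u * x⁻¹) := h.cm hu hu'
  have c2 : Commute (x * u * x⁻¹) (x⁻¹ * u * x) := cc3 h.x3 u ▸ conj_comm x c1
  have c3 : Commute u (x⁻¹ * u * x) := by
    have := conj_comm x⁻¹ c1.symm
    rwa [show x⁻¹ * (x * u * x⁻¹) * x⁻¹⁻¹ = u by group, inv_inv] at this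
  have : tr x (u * u) = tr x u ^ 2 := by
    rw [tr, tr, (c3.mul_left c2).mul_pow, c1.mul_pow, sq, sq, sq]; group
  rcases h.tr_mem hu with k | k <;> rw [this, k]
  exacts [one_pow _, (sq s).trans (sq_of h.os)]

theorem zero (hu : u ∈ kk s) (hu' : u ∈ kk p) (t1 : tr x u = 1) (t2 : tr y u = 1) : u = 1 :=
  grid h.fr (kk_n3 hu) (h.cm hu hu') (h.symm.cm hu' hu) t1 t2

theorem sq (hu : u ∈ kk s) (hu' : u ∈ kk p) : u * u = 1 :=
  h.zero (mul_mem hu hu) (mul_mem hu' hu') (h.tr_sq hu hu') (h.symm.tr_sq hu' hu)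

theorem no10 (hu : u ∈ kk s) (hu' : u ∈ kk p) (t1 : tr x u = s) (t2 : tr y u = 1) : False := by
  have ss := sq_of h.os
  have uu := h.sq hu hu'
  have us : Commute u s := kk_comm hu
  have y3 := h.symm.x3
  have r1 : u * s * (u * s) = 1 := by rw [us.symm.mul_mul_mul_comm, uu, ss, one_mul]
  have σ1 : s * y * (s * y) = 1 := by
    rw [← mul_assoc, ← inv_eq_of_sq ss, inv_eq_of_sq ss, ← inv_eq_of_sq ss]
    nth_rewrite 1 [inv_eq_of_sq ss]
    rw [h.sy, inv_mul_cancel]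
  have σx : x * (s * y) * x⁻¹ = s * y := by
    rw [← mul_assoc, ← h.sx, mul_assoc s, h.xy, ← mul_assoc, mul_inv_cancel_right]
  have k1 : (u * s * (s * y)) ^ 3 = 1 := by
    rw [mul_assoc, ← mul_assoc s, ss, one_mul, ← tr_cube y3, t2]
  have k2 : ∀ g : G, g * (s * y) * g⁻¹ = s * y → (g * (u * s) * g⁻¹ * (s * y)) ^ 3 = 1 := fun g k => by
    rw [← k, conj_mul, conj_pow, k1]; simp
  have t3 : tr x (u * s) = 1 := by
    rw [tr_cube h.x3, mul_assoc, h.sx, ← mul_assoc, (us.mul_left h.sx.symm).mul_pow, ← tr_cube h.x3,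
      t1, ← pow_succ', show 3 + 1 = 2 * 2 from rfl, pow_mul, _root_.sq s, ss, one_pow]
  have r3 : u * s * (x * (u * s) * x⁻¹) = x⁻¹ * (u * s) * x⁻¹⁻¹ := by
    rw [eq_inv_of_mul_eq_one_left t3, ← inv_eq_of_sq (conj_sq r1 x⁻¹), inv_inv x]
  have r4 : u * s * (x * (u * s) * x⁻¹) = x * (u * s) * x⁻¹ * (u * s) := by
    have := conj_sq r1 x⁻¹
    rw [← r3] at this
    rw [← inv_eq_of_sq this, mul_inv_rev, inv_eq_of_sq r1, inv_eq_of_sq (conj_sq r1 x)]
  have σx' : x⁻¹ * (s * y) * x⁻¹⁻¹ = s * y := by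
    nth_rewrite 1 [← σx]; group
  have k3 := cox4 r1 (conj_sq r1 x) σ1 r4 k1 (k2 x σx) (r3 ▸ k2 x⁻¹ σx')
  rw [r3, ← σx', mul_left_inj, mul_right_inj, us.eq, mul_right_inj] at k3
  rw [k3] at uu
  rw [pow_three, uu, mul_one] at y3
  exact h.fr.b1 y3

theorem t11 (hu : u ∈ kk s) (hu' : u ∈ kk p) (u1 : u ≠ 1) : tr x u = s ∧ tr y u = p := by
  rcases h.tr_mem hu with k | k <;> rcases h.symm.tr_mem hu' with k' | k'
  exacts [absurd (h.zero hu hu' k k') u1, (h.symm.no10 hu' hu k' k).elim, (h.no10 hu hu' k k').elim,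
    ⟨k, k'⟩]

end C0

end Cfsg.Agent.H32.SD
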