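import Cfsg.Agent.H32.SdCf
import Cfsg.Agent.H95.CoxeterA

/-!
A nontrivial element of `kk s ⊓ kk p` produces a symmetric group of degree six; it is unique.
-/

set_option autoImplicit false
set_option linter.unusedSectionVars false

namespace Cfsg.Agent.H32.SD

open Cfsg Cfsg.Agent.H49 Cfsg.Agent.NO6 Cfsg.Agent.SC6 Cfsg.Agent.H76 Subgroup Equiv

universe u

variable {G : Type u} [Group G] [Finite G] {M : Subgroup G} {x y s p a d u e m g : G}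

/-- `C(e) / kk e` is `S₃` or `A₅`. -/
def T2 (e : G) : Prop := Ty e (Perm (Fin 3)) ∨ Ty e (alternatingGroup (Fin 5))

theorem T2.conj (h : T2 e) (g : G) : T2 (g * e * g⁻¹) := h.imp (·.conj g) (·.conj g)

theorem Ty.no4 {L : Type} [Group L] (h : Ty e L) (hL : ∀ l : L, l * l * (l * l) = 1 → l * l = 1)
    (c : g * e = e * g) (k : g * g * (g * g) ∈ kk e) : g * g ∈ kk e := by
  obtain ⟨φ, -, hk⟩ := h
  have := (hk (⟨g, mem_cent1.2 c⟩ * ⟨g, mem_cent1.2 c⟩ * (⟨g, mem_cent1.2 c⟩ * ⟨g, mem_cent1.2 c⟩))).2 k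
  simp only [map_mul] at this
  exact (hk (⟨g, mem_cent1.2 c⟩ * ⟨g, mem_cent1.2 c⟩)).1 (map_mul φ _ _ ▸ hL _ this)

theorem T2.mem (h : T2 e) (he : orderOf e = 2) {ζ : G} (c : e * m = m * e) (z2 : ζ * ζ = 1)
    (ze : ζ * e = e * ζ) (zm : ζ * m * ζ⁻¹ = m⁻¹) (uu : u * u = 1) (ue : u * e = e * u)
    (zu : ζ * u = u * ζ) (t : tr m u = e) : u ∈ kk e := by
  have h1 : ζ * (m * u * m⁻¹) * (ζ * (m * u * m⁻¹)) = (u * e)⁻¹ := by
    have h2 : m * u * m⁻¹ * (m⁻¹ * u * m⁻¹⁻¹) = u * e := by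
      rw [← t, tr, ← mul_assoc u, ← mul_assoc u, uu, one_mul, inv_inv]
    calc _ = ζ * m * ζ⁻¹ * (ζ * u) * ζ⁻¹ * (ζ * m * ζ⁻¹)⁻¹ * (ζ * ζ) * (m * u * m⁻¹) := by group
      _ = _ := by
        rw [zm, zu, z2, ← h2, mul_inv_rev (m * u * m⁻¹), inv_eq_of_sq (conj_sq uu m),
          inv_eq_of_sq (conj_sq uu m⁻¹)]
        group
  have h3 : (u * e)⁻¹ * (u * e)⁻¹ ∈ kk e := by
    rw [← mul_inv_rev, (Commute.symm ue).mul_mul_mul_comm, uu, sq_of he, one_mul, inv_one]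
    exact one_mem _
  have c1 : ζ * (m * u * m⁻¹) * e = e * (ζ * (m * u * m⁻¹)) :=
    Commute.mul_left ze ((Commute.mul_left c.symm ue).mul_left (Commute.inv_left c.symm))
  have h4 : (u * e)⁻¹ ∈ kk e := h1 ▸ h.elim (fun k => k.no4 (by decide) c1 (h1 ▸ h3))
    fun k => k.no4 (by decide +kernel) c1 (h1 ▸ h3)
  exact (mul_mem_cancel_right (self_kk he)).1 (inv_mem_iff.1 h4)

theorem C0.cox (h : C0 M x y s p) (dd : d * d = 1) (ds : d * s = s * d) (dp : d * p = p * d)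
    (t1 : tr x d = s) (t2 : tr y d = p) :
    ∃ w g m ζ : G, (w * x * w⁻¹ = y ∧ w * y * w⁻¹ = x ∧ w * (s * p) = s * p * w ∧ w * d = d * w ∧
      tr (x * y) (d * s * p) = w) ∧ (g * w * g⁻¹ = d ∧ g * (w * s * p) * g⁻¹ = x * d * x⁻¹ ∧
      g * (d * s * p) * g⁻¹ = s ∧ ζ * (s * d) * ζ⁻¹ = s * p) ∧ orderOf m = 3 ∧ d * m = m * d ∧
      ζ * ζ = 1 ∧ ζ * d = d * ζ ∧ ζ * m * ζ⁻¹ = m⁻¹ ∧ ζ * p = p * ζ ∧ tr m p = d ∧
      m⁻¹ * p * m⁻¹⁻¹ = s := by
  have ss := sq_of h.os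
  have pp := sq_of h.op
  have sy : Commute s p := h.sp
  have k : ∀ {a b : G}, a * a = 1 → a * b * a⁻¹ = b⁻¹ → a * b * (a * b) = 1 := fun {a b} h1 h2 => by
    rw [← mul_assoc, ← inv_eq_of_sq h1, inv_eq_of_sq h1, ← inv_eq_of_sq h1]
    nth_rewrite 1 [inv_eq_of_sq h1]
    rw [h2, inv_mul_cancel]
  have k3 : ∀ {a : G}, a * a = 1 → a ^ 3 * a = 1 := fun {a} h1 => by
    rw [← pow_succ, show 3 + 1 = 2 * 2 from rfl, pow_mul, _root_.sq a, h1, one_pow]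
  have q2 : d * s * p * (d * s * p) = 1 := by
    rw [(Commute.mul_right dp.symm sy.symm).mul_mul_mul_comm,
      (Commute.symm ds).mul_mul_mul_comm, dd, ss, pp, one_mul, one_mul]
  obtain ⟨φ, hφ⟩ := H95.exists_hom_perm_of_coxeter 5
    (fun i => match i with | 0 => p | 1 => p * x | 2 => d * s * p | 3 => s * y | _ => s)
    (fun i hi => by
      interval_cases i
      exacts [pp, k pp h.px, q2, k ss h.sy, ss])
    (fun i hi => by
      have : i < 4 := by omega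
      interval_cases i
      · exact braid (a := p) (b := p * x) pp (k pp h.px) (by rw [← mul_assoc, pp, one_mul, h.x3])
      · refine (braid q2 (k pp h.px) ?_).symm
        rw [mul_assoc, ← mul_assoc p, pp, one_mul, ds, mul_assoc,
          (Commute.mul_right ds.symm h.sx).mul_pow, ← tr_cube h.x3, t1, k3 ss]
      · refine braid (a := d * s * p) (b := s * y) q2 (k ss h.sy) ?_
        rw [mul_assoc d, h.sp, mul_assoc, mul_assoc, ← mul_assoc s, ss, one_mul, ← mul_assoc, dp,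
          mul_assoc, (Commute.mul_right dp.symm h.py).mul_pow, ← tr_cube h.symm.x3, t2, k3 pp]
      · exact (braid ss (k ss h.sy) (by rw [← mul_assoc, ss, one_mul, h.symm.x3])).symm)
    (fun i j hi hj => by
      have : i < 3 := by omega
      interval_cases i <;> interval_cases j
      · exact (Commute.mul_right dp.symm sy.symm).mul_right (Commute.refl p)
      · exact Commute.mul_right sy.symm h.py
      · exact sy.symm
      · exact (Commute.mul_right sy.symm h.py).mul_left (Commute.mul_right h.sx.symm h.xy)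
      · exact Commute.mul_left sy.symm h.sx.symm
      · exact (Commute.mul_left ds (Commute.refl s)).mul_left sy.symm)
  have e0 : φ (swap 0 1) = p := hφ 0 (by decide)
  have e2 : φ (swap 2 3) = d * s * p := hφ 2 (by decide)
  have e4 : φ (swap 4 5) = s := hφ 4 (by decide)
  have e1 : φ (swap 0 1 * swap 1 2) = x := by
    rw [map_mul, e0, show φ (swap 1 2) = p * x from hφ 1 (by decide), ← mul_assoc, pp, one_mul]
  have e3 : φ (swap 4 5 * swap 3 4) = y := by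
    rw [map_mul, e4, show φ (swap 3 4) = s * y from hφ 3 (by decide), ← mul_assoc, ss, one_mul]
  have e5 : φ (swap 2 3 * swap 0 1 * swap 4 5) = d := by
    rw [map_mul, map_mul, e0, e2, e4, mul_assoc _ p p, pp, mul_one, mul_assoc, ss, mul_one]
  have hm : orderOf (φ (swap 0 2 * swap 1 3 * swap 2 4 * swap 3 5)) = 3 := by
    rw [← h.oxy, ← e1, ← e3, ← (MulAut.conj (φ (swap 2 4 * swap 1 2))).orderOf_eq, MulAut.conj_apply]
    simp only [← map_mul, ← map_inv]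
    exact congrArg (fun t => orderOf (φ t)) (by decide)
  refine ⟨φ (swap 0 5 * swap 1 4 * swap 2 3), φ (swap 0 3 * swap 2 5 * swap 3 4), _,
    φ (swap 2 4 * swap 3 5), ?_, ?_, hm, ?_⟩ <;> clear hm hφ k k3 <;>
    subst e0 e1 e3 e4 e5 <;> simp only [tr, ← map_mul, ← map_inv]
  · refine ⟨?_, ?_, ?_, ?_, ?_⟩ <;> exact congrArg φ (by decide +kernel)
  · refine ⟨?_, ?_, ?_, ?_⟩ <;> exact congrArg φ (by decide +kernel)
  · rw [← map_one φ]
    refine ⟨?_, ?_, ?_, ?_, ?_, ?_, ?_⟩ <;> exact congrArg φ (by decide +kernel)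

/-- The action of the semidihedral group `⟨a, s⟩` on `M`. -/
structure Cf (M : Subgroup G) (x y s p a : G) : Prop extends C0 M x y s p where
  oa : orderOf a = 8
  sa : s * a * s⁻¹ = a ^ 3
  z : s * p = a ^ 4
  ax : a ^ 2 * x * (a ^ 2)⁻¹ = y
  ay : a ^ 2 * y * (a ^ 2)⁻¹ = x⁻¹

/-- What is known about the nontrivial element of `kk s ⊓ kk p`. -/
structure Dd (x s p a d : G) : Prop where
  ds : d ∈ kk s
  dp : d ∈ kk p
  od : orderOf d = 2
  uniq : ∀ u ∈ kk s, u ∈ kk p → u = 1 ∨ u = d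
  ad : a * d * a⁻¹ = d * (s * p)
  ex : ∃ g, g * s * g⁻¹ = d ∧ g * p * g⁻¹ = x * d * x⁻¹ ∧ g * d * g⁻¹ = s
  sd : IsConj (s * d) (s * p)
  sk : s ∈ kk d
  pk : p ∈ kk d

namespace Cf

variable (h : Cf M x y s p a)
include h

theorem a8 : a ^ 8 = 1 := h.oa ▸ pow_orderOf_eq_one a

theorem pw {i j : ℕ} (e : i % 8 = j % 8) : a ^ i = a ^ j := by
  rw [← pow_mod_orderOf a i, ← pow_mod_orderOf a j, h.oa, e]

theorem sa' (k : ℕ) : s * a ^ k * s⁻¹ = a ^ (3 * k) := by rw [← conj_pow, h.sa, pow_mul]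

theorem as (k : ℕ) : a ^ k * s * (a ^ k)⁻¹ = s * a ^ (2 * k) := by
  have h1 := h.sa' k
  rw [inv_eq_of_sq (sq_of h.os)] at h1
  calc _ = (s * s) * a ^ k * s * (a ^ k)⁻¹ := by rw [sq_of h.os, one_mul]
    _ = s * (s * a ^ k * s) * (a ^ k)⁻¹ := by group
    _ = _ := by rw [h1]; group

theorem p_eq : p = s * a ^ 4 := by rw [← h.z, ← mul_assoc, sq_of h.os, one_mul]

theorem sp' : a ^ 2 * s * (a ^ 2)⁻¹ = p := by rw [h.as, h.p_eq]

theorem oz : orderOf (s * p) = 2 := by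
  rw [h.z, orderOf_pow_of_dvd (by decide) (by rw [h.oa]; decide), h.oa]

theorem zx : s * p * x * (s * p)⁻¹ = x⁻¹ := by
  calc _ = s * (p * x * p⁻¹) * s⁻¹ := by group
    _ = _ := by rw [h.px, ← conj_inv, h.sx, mul_inv_cancel_right]

theorem zy : s * p * y * (s * p)⁻¹ = y⁻¹ := by
  calc _ = s * (p * y * p⁻¹) * s⁻¹ := by group
    _ = _ := by rw [h.py, mul_inv_cancel_right, h.sy]

theorem w_eq {w : G} (h1 : w * x * w⁻¹ = y) (h2 : w * y * w⁻¹ = x) (h3 : w * (s * p) = s * p * w) :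
    w = a ^ 3 * s * (a ^ 3)⁻¹ := by
  have e6 : a ^ 6 = s * p * a ^ 2 := by rw [h.z, ← pow_add]
  have k1 : s * a ^ 6 * x * (s * a ^ 6)⁻¹ = y := by
    calc _ = s * (s * p * (a ^ 2 * x * (a ^ 2)⁻¹) * (s * p)⁻¹) * s⁻¹ := by rw [e6]; group
      _ = _ := by rw [h.ax, h.zy, ← conj_inv, h.sy, inv_inv]
  have k2 : s * a ^ 6 * y * (s * a ^ 6)⁻¹ = x := by
    calc _ = s * (s * p * (a ^ 2 * y * (a ^ 2)⁻¹) * (s * p)⁻¹) * s⁻¹ := by rw [e6]; group
      _ = _ := by rw [h.ay, ← conj_inv, h.zx, inv_inv, h.sx, mul_inv_cancel_right]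
  have k3 : s * a ^ 6 * (s * p) = s * p * (s * a ^ 6) :=
    Commute.mul_left ((Commute.refl s).mul_right h.sp) (h.z ▸ Commute.pow_pow (Commute.refl a) 6 4)
  rw [h.as]
  generalize s * a ^ 6 = v at k1 k2 k3
  have k4 : ∀ t b : G, w * t * w⁻¹ = b → v * t * v⁻¹ = b → Commute (v⁻¹ * w) t := fun t b e1 e2 => by
    calc v⁻¹ * w * t = v⁻¹ * (w * t * w⁻¹) * w := by group
      _ = _ := by rw [e1, ← e2]; group
  have k5 : v⁻¹ * w ∈ M := h.fr.e3.mem_of_comm fun t ht => by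
    obtain ⟨j, rfl⟩ := h.fr.surj ht
    exact mul_inv_eq_iff_eq_mul.2 (((k4 x y h1 k1).pow_right _).mul_right ((k4 y x h2 k2).pow_right _))
  have k6 : s * p * (v⁻¹ * w) * (s * p)⁻¹ = (v⁻¹ * w)⁻¹ := by
    obtain ⟨j, hj⟩ := h.fr.surj k5
    rw [← hj, ph, ← conj_mul, ← conj_pow, ← conj_pow, h.zx, h.zy, inv_pow, inv_pow, ← mul_inv_rev,
      (Commute.pow_pow h.xy _ _).eq]
  rw [← (Commute.mul_left (Commute.inv_left k3) h3).eq, mul_inv_cancel_right,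
    eq_inv_iff_mul_eq_one] at k6
  have k7 := h.fr.e3.exp _ k5
  rw [pow_three, k6, mul_one] at k7
  exact (inv_mul_eq_one.1 k7).symm

theorem q_mem (T : T2 s) (h1 : d ∈ kk s) (h2 : d ∈ kk p) (d1 : d ≠ 1) :
    d * (s * p) ∈ kk (a ^ 3 * s * (a ^ 3)⁻¹) := by
  obtain ⟨t1, t2⟩ := h.t11 h1 h2 d1
  obtain ⟨w, -, -, -, ⟨w1, w2, w3, w4, w5⟩, -⟩ :=
    h.cox (h.sq h1 h2) (kk_comm h1) (kk_comm h2) t1 t2
  obtain rfl := h.w_eq w1 w2 w3
  have c : Commute d (s * p) := Commute.mul_right (kk_comm h1) (kk_comm h2)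
  refine (T.conj _).mem ((MulAut.conj _).orderOf_eq s ▸ h.os) (m := x * y) (ζ := s * p) ?_
    (sq_of h.oz) w3.symm ?_ ?_ (Commute.mul_left w4.symm w3.symm)
    (c.symm.mul_right (Commute.refl _)) (mul_assoc d s p ▸ w5)
  · rw [← mul_inv_eq_iff_eq_mul, ← conj_mul, w1, w2, h.xy]
  · rw [← conj_mul, h.zx, h.zy, ← mul_inv_rev, h.xy]
  · rw [c.symm.mul_mul_mul_comm, h.sq h1 h2, sq_of h.oz, one_mul]

theorem uniq (T : T2 s) (h1 : d ∈ kk s) (h2 : d ∈ kk p) (d1 : d ≠ 1) (k1 : u ∈ kk s)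
    (k2 : u ∈ kk p) : u = 1 ∨ u = d := by
  by_contra k
  rw [not_or] at k
  have dd := h.sq h1 h2
  have c : Commute (s * p) u := (Commute.mul_right (kk_comm k1) (kk_comm k2)).symm
  have e1 := mul_mem (inv_mem (mul_mem (h.q_mem T h1 h2 d1) (h.q_mem T k1 k2 k.1)))
    (h.q_mem T (mul_mem h1 k1) (mul_mem h2 k2) fun e =>
      k.2 ((eq_inv_of_mul_eq_one_right e).trans (inv_eq_of_sq dd)))
  rw [c.mul_mul_mul_comm, sq_of h.oz, mul_one, inv_mul_cancel_left] at e1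
  obtain ⟨t1, t2⟩ := h.t11 h1 h2 d1
  obtain ⟨w, -, -, -, ⟨w1, w2, w3, -⟩, -⟩ := h.cox dd (kk_comm h1) (kk_comm h2) t1 t2
  rw [← h.w_eq w1 w2 w3] at e1
  refine not_kk_inv h.oxy ?_ ?_ e1
  · rw [← mul_inv_eq_iff_eq_mul, ← conj_mul, w1, w2, h.xy]
  · rw [← conj_mul, h.zx, h.zy, ← mul_inv_rev, h.xy]

theorem dd (T : T2 s) (h1 : d ∈ kk s) (h2 : d ∈ kk p) (d1 : d ≠ 1) : Dd x s p a d := by
  have d2 := h.sq h1 h2
  have ss := sq_of h.os
  obtain ⟨t1, t2⟩ := h.t11 h1 h2 d1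
  obtain ⟨w, g, m, ζ, ⟨w1, w2, w3, w4, -⟩, ⟨g1, g2, g3, g4⟩, m1, m2, z1, z2, z3, z4, z5, z6⟩ :=
    h.cox d2 (kk_comm h1) (kk_comm h2) t1 t2
  obtain rfl := h.w_eq w1 w2 w3
  have c : Commute d (s * p) := Commute.mul_right (kk_comm h1) (kk_comm h2)
  have q1 := h.q_mem T h1 h2 d1
  have ap : a ^ 3 * p * (a ^ 3)⁻¹ = a ^ 3 * s * (a ^ 3)⁻¹ * s * p := by
    rw [mul_assoc _ s p, h.z, h.p_eq]; group
  have q2 : d * (s * p) ∈ kk (a ^ 3 * p * (a ^ 3)⁻¹) := by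
    have := kk_cj s q1
    rw [(Commute.mul_right (kk_comm h1).symm ((Commute.refl s).mul_right h.sp)).eq,
      mul_inv_cancel_right] at this
    convert this using 2
    rw [ap, mul_assoc _ s p, h.z, h.as, mul_assoc s (s * _), h.sa', mul_assoc, ← pow_add]
    exact congrArg _ (h.pw rfl)
  have q3 : a ^ 3 * d * (a ^ 3)⁻¹ = d * (s * p) := by
    have k1 := kk_cj (a ^ 3)⁻¹ q1
    have k2 := kk_cj (a ^ 3)⁻¹ q2
    rw [show ∀ t : G, (a ^ 3)⁻¹ * (a ^ 3 * t * (a ^ 3)⁻¹) * (a ^ 3)⁻¹⁻¹ = t from fun t => by group]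
      at k1 k2
    rcases h.uniq T h1 h2 d1 k1 k2 with k | k
    · rw [conj_eq_one_iff, mul_eq_one_iff_eq_inv, inv_eq_of_sq (sq_of h.oz)] at k
      exact absurd ((mul_mem_cancel_left (self_kk h.os)).1 (k ▸ h1)) h.p0
    · nth_rewrite 1 [← k]; group
  have c2 : Commute (a ^ 2) d := by
    rw [h.as] at w4
    have : Commute (a ^ 6) d := by
      simpa [← mul_assoc, ss] using Commute.mul_left (kk_comm h1).symm w4
    have := this.pow_left 3
    rwa [← pow_mul, h.pw (i := 6 * 3) (j := 2) rfl] at this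
  have g5 : g * a ^ 3 * s * (g * a ^ 3)⁻¹ = d := by rw [← g1]; group
  have pk : p ∈ kk d := (g5 ▸ T.conj (g * a ^ 3)).mem (ord2 d1 d2) m2 z1 z2 z3 (sq_of h.op)
    (kk_comm h2).symm z4 z5
  refine ⟨h1, h2, ord2 d1 d2, fun u => h.uniq T h1 h2 d1, ?_, ⟨g * a ^ 3, g5, ?_, ?_⟩,
    isConj_iff.2 ⟨ζ, g4⟩, z6 ▸ kk_conj (Commute.inv_left m2.symm) pk, pk⟩
  · rw [← q3, pow_succ', mul_assoc a (a ^ 2), c2.eq]; group
  · rw [← g2, ← ap]; group
  · rw [← g3, mul_assoc d, ← q3]; group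

end Cf

end Cfsg.Agent.H32.SD
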